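import Groth.Agent.BMCohLib.PointPush
import Groth.Agent.NormalSch.Normalization
import Mathlib.AlgebraicGeometry.SpreadingOut
import Groth.Prelude.Def_Curv2

/-!
# The normalisation is an isomorphism over an open
-/

set_option autoImplicit false
set_option linter.style.haveILetI false
set_option backward.isDefEq.respectTransparency false
set_option backward.defeqAttrib.useBackward true

universe u

open AlgebraicGeometry CategoryTheory CategoryTheory.Limits

namespace Groth.Agent.BMCohLib

theorem isClosedImmersion_section {W S : Scheme.{u}} (f : W ⟶ S) [IsSeparated f] (s : S ⟶ W) (h : s ≫ f = 𝟙 S) :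
    IsClosedImmersion s :=
  haveI : IsClosedImmersion (s ≫ f) := h.symm ▸ inferInstance
  IsClosedImmersion.of_comp s f

theorem exists_isIso_restrict {W S : Scheme.{u}} [IsIntegral W] (ν : W ⟶ S) [IsSeparated ν] (U : S.Opens)
    (s : (U : Scheme.{u}) ⟶ W) (hs : s ≫ ν = U.ι) (hgen : genericPoint W ∈ Set.range s) :
    IsIso (ν ∣_ U) := by
  let s' : (U : Scheme.{u}) ⟶ (ν ⁻¹ᵁ U : Scheme.{u}) := IsOpenImmersion.lift (ν ⁻¹ᵁ U).ι s (by
    rintro _ ⟨w, rfl⟩
    rw [Scheme.Opens.range_ι]
    show ν (s w) ∈ U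
    rw [← Scheme.Hom.comp_apply, hs]
    exact w.2)
  have hs' : s' ≫ (ν ⁻¹ᵁ U).ι = s := IsOpenImmersion.lift_fac _ _ _
  have h1 : s' ≫ ν ∣_ U = 𝟙 _ := by
    rw [← cancel_mono U.ι, Category.assoc, morphismRestrict_ι, ← Category.assoc, hs', hs, Category.id_comp]
  haveI := isClosedImmersion_section (ν ∣_ U) s' h1
  haveI : IsReduced (ν ⁻¹ᵁ U : Scheme.{u}) := isReduced_of_isOpenImmersion (ν ⁻¹ᵁ U).ι
  haveI : Surjective s' := ⟨fun w => by
    obtain ⟨g, hg⟩ := hgen
    have hw : s' g ⤳ w := by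
      rw [← (ν ⁻¹ᵁ U).ι.isEmbedding.isInducing.specializes_iff, ← Scheme.Hom.comp_apply, hs', hg]
      exact (genericPoint_spec W).specializes trivial
    exact hw.mem_closed s'.isClosedMap.isClosed_range ⟨g, rfl⟩⟩
  haveI : IsIso s' := isIso_of_isClosedImmersion_of_surjective s'
  exact IsIso.of_isIso_fac_left h1

theorem isIso_restrict_le {W S : Scheme.{u}} (ν : W ⟶ S) {U' U : S.Opens} (h : U' ≤ U) [IsIso (ν ∣_ U)] :
    IsIso (ν ∣_ U') := by
  have hsq : IsPullback (W.homOfLE (ν.preimage_mono h)) (ν ∣_ U') (ν ∣_ U) (S.homOfLE h) := by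
    refine IsPullback.of_right ?_ ?_ (isPullback_morphismRestrict ν U).flip
    · rw [Scheme.homOfLE_ι, Scheme.homOfLE_ι]
      exact (isPullback_morphismRestrict ν U').flip
    · rw [← cancel_mono U.ι, Category.assoc, Category.assoc, morphismRestrict_ι, Scheme.homOfLE_ι,
        morphismRestrict_ι, ← Category.assoc, Scheme.homOfLE_ι]
  exact MorphismProperty.of_isPullback (P := MorphismProperty.isomorphisms Scheme.{u}) hsq ‹IsIso (ν ∣_ U)›

variable (Z : Scheme.{u}) [IsIntegral Z] [QuasiCompact (Z.fromSpecStalk (genericPoint Z))]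
  [QuasiSeparated (Z.fromSpecStalk (genericPoint Z))]

theorem exists_isIso_normalization [LocallyOfFiniteType (Curv2.normalizationι Z)]
    [IsSeparated (Curv2.normalizationι Z)] :
    ∃ U : Z.Opens, genericPoint Z ∈ U ∧ IsIso (Curv2.normalizationι Z ∣_ U) := by
  letI g : Spec (CommRingCat.of (Z.functionField : Type u)) ⟶ Z := Z.fromSpecStalk (genericPoint Z)
  haveI : QuasiCompact g := ‹QuasiCompact (Z.fromSpecStalk (genericPoint Z))›
  haveI : QuasiSeparated g := ‹QuasiSeparated (Z.fromSpecStalk (genericPoint Z))›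
  haveI hN : IsIntegral (Curv2.normalization Z) := inferInstanceAs (IsIntegral g.normalization)
  obtain ⟨U, hU, s, hφ, hs⟩ := spread_out_of_isGermInjective' (𝟙 Z) (Curv2.normalizationι Z)
    (x := genericPoint Z) (Z.fromSpecStalk (genericPoint Z)).toNormalization
    ((Z.fromSpecStalk (genericPoint Z)).toNormalization_fromNormalization.trans (Category.comp_id _).symm)
  refine ⟨U, hU, exists_isIso_restrict _ U s (hs.trans (Category.comp_id _)) ?_⟩
  refine ⟨U.fromSpecStalkOfMem (genericPoint Z) hU (IsLocalRing.closedPoint _), ?_⟩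
  rw [← Scheme.Hom.comp_apply, ← hφ]
  exact NormalSch.generic_normalization g

end Groth.Agent.BMCohLib
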