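import Groth.Agent.BMCohLib.PointPush
import Groth.Agent.NormalSch.Birational
import Groth.Prelude.Def_BMCoh5

/-!
# Residues and push-forward along an integral map preserving dimensions of points
-/

set_option autoImplicit false
set_option linter.style.haveILetI false
set_option backward.isDefEq.respectTransparency false
set_option backward.defeqAttrib.useBackward true

universe u

open AlgebraicGeometry CategoryTheory CategoryTheory.Limits Opposite BMCoh TopologicalSpace Topology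

namespace Groth.Agent.BMCohLib

variable {V : ObjectProperty Scheme.{u}} [IsConstructible V] {R : Type u} [CommRing R] {A : Coefs R}
  {T : PreTheory V R A} {X Y : Obj V} (M : A.Cat)

theorem pdim_map_eq (φ : Y.scheme ⟶ X.scheme) [IsIntegralHom φ] (z : Y.scheme) :
    WeilCoh.pdim X.scheme (φ z) = WeilCoh.pdim Y.scheme z := by
  show WeilCoh.natDim (closure ({φ z} : Set X.scheme)) = WeilCoh.natDim (closure ({z} : Set Y.scheme))
  rw [natDim_closure, natDim_closure]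
  obtain ⟨a, ha⟩ := ENat.ne_top_iff_exists.mp (height_ne_top (dim_lt_top X) (pt (φ z)))
  refine congrArg ENat.toNat (le_antisymm ?_ ?_)
  · rw [← ha]
    exact height_le_of_isClosedMap φ.continuous φ.isClosedMap a z ha.le
  · let gp : IrreducibleCloseds Y.scheme → Y.scheme := fun Z => (exists_pt_eq Z).choose
    have hgp : ∀ Z, pt (gp Z) = Z := fun Z => (exists_pt_eq Z).choose_spec
    have hsm : StrictMono fun Z => pt (φ (gp Z)) := fun Z Z' h => by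
      rw [← hgp Z, ← hgp Z'] at h
      have hs : gp Z' ⤳ gp Z := pt_le_pt.mp h.le
      refine lt_of_le_not_ge (pt_le_pt.mpr (hs.map φ.continuous)) fun h' => h.not_ge ?_
      rw [Groth.Agent.NormalSch.eq_of_specializes_of_eq φ hs ((pt_le_pt.mp h').antisymm (hs.map φ.continuous)).eq.symm]
    refine le_trans (Order.height_le_height_apply_of_strictMono _ hsm (pt z)) (le_of_eq ?_)
    have : gp (pt z) = z := ((pt_le_pt.mp (hgp (pt z)).ge).antisymm (pt_le_pt.mp (hgp (pt z)).le)).eq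
    show Order.height (pt (φ (gp (pt z)))) = _
    rw [this]

theorem codim_map_eq (φ : Y.scheme ⟶ X.scheme) [IsIntegralHom φ] {q : ℕ}
    (hdim : WeilCoh.dim Y.scheme + q = WeilCoh.dim X.scheme) (z : Y.scheme) :
    WeilCoh.codim X.scheme (φ z) = WeilCoh.codim Y.scheme z + q := by
  have h0 := pdim_map_eq φ z
  have h1 := pdim_add_codim Y z
  have h2 := pdim_add_codim X (φ z)
  omega

/-- The map between pieces over a map of opens. -/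
theorem exists_piece_map (φ : Y.scheme ⟶ X.scheme) [IsProper φ] (U : X.scheme.Opens) (y : Y.scheme)
    {x : X.scheme} (hx : φ y = x) (hy : y ∈ φ ⁻¹ᵁ U) (hxU : x ∈ U) :
    ∃ f : ((Y.ptSub y).res (piece y (φ ⁻¹ᵁ U) hy).1).scheme ⟶ ((X.ptSub x).res (piece x U hxU).1).scheme,
      IsProper f ∧ f ≫ pieceι x U hxU = pieceι y (φ ⁻¹ᵁ U) hy ≫ (φ ∣_ U) ∧
      f ≫ (piece x U hxU).1.ι ≫ X.ptSubι x = (piece y (φ ⁻¹ᵁ U) hy).1.ι ≫ Y.ptSubι y ≫ φ := by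
  obtain ⟨ψ, hψ⟩ := exists_lift_ptSub (X := X) (Y := Y) (φ := φ) hx
  have hr : Set.range ((piece y (φ ⁻¹ᵁ U) hy).1.ι ≫ ψ) ⊆ Set.range (piece x U hxU).1.ι := by
    rintro _ ⟨w, rfl⟩
    rw [Scheme.Opens.range_ι, Scheme.Hom.comp_apply]
    show X.ptSubι x (ψ w.1) ∈ U
    rw [← Scheme.Hom.comp_apply, hψ, Scheme.Hom.comp_apply]
    exact w.2
  let f := IsOpenImmersion.lift (piece x U hxU).1.ι ((piece y (φ ⁻¹ᵁ U) hy).1.ι ≫ ψ) hr
  have hf : f ≫ (piece x U hxU).1.ι = (piece y (φ ⁻¹ᵁ U) hy).1.ι ≫ ψ := IsOpenImmersion.lift_fac _ _ _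
  have h2 : f ≫ (piece x U hxU).1.ι ≫ X.ptSubι x = (piece y (φ ⁻¹ᵁ U) hy).1.ι ≫ Y.ptSubι y ≫ φ := by
    rw [← Category.assoc, hf, Category.assoc, hψ]
  have h1 : f ≫ pieceι x U hxU = pieceι y (φ ⁻¹ᵁ U) hy ≫ (φ ∣_ U) := by
    rw [← cancel_mono U.ι, Category.assoc, Category.assoc, pieceι_ι, morphismRestrict_ι]
    erw [reassoc_of% (pieceι_ι y (φ ⁻¹ᵁ U) hy)]
    exact h2
  haveI : IsProper (φ ∣_ U) := IsZariskiLocalAtTarget.restrict (P := @IsProper) inferInstance _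
  haveI : IsProper (f ≫ pieceι x U hxU) := by rw [h1]; infer_instance
  exact ⟨f, IsProper.of_comp f (pieceι x U hxU), h1, h2⟩

theorem isPullback_restrict_le (φ : Y.scheme ⟶ X.scheme) {U U' : X.scheme.Opens} (h : U ≤ U') :
    IsPullback (Y.scheme.homOfLE (φ.preimage_mono h)) (φ ∣_ U) (φ ∣_ U') (X.scheme.homOfLE h) := by
  refine IsPullback.of_right ?_ ?_ (isPullback_morphismRestrict φ U').flip
  · rw [Scheme.homOfLE_ι, Scheme.homOfLE_ι]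
    exact (isPullback_morphismRestrict φ U).flip
  · rw [← cancel_mono U'.ι, Category.assoc, Category.assoc, morphismRestrict_ι, Scheme.homOfLE_ι,
      morphismRestrict_ι, ← Category.assoc, Scheme.homOfLE_ι]

theorem relCodim_restrict (φ : Y.scheme ⟶ X.scheme) {q : ℕ}
    (hdim : WeilCoh.dim Y.scheme + q = WeilCoh.dim X.scheme) (U : X.scheme.Opens)
    (hU : WeilCoh.dim (U : Scheme.{u}) = WeilCoh.dim X.scheme)
    (hU' : WeilCoh.dim ((φ ⁻¹ᵁ U : Y.scheme.Opens) : Scheme.{u}) = WeilCoh.dim Y.scheme) :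
    relCodim (Y.res (φ ⁻¹ᵁ U)).scheme (X.res U).scheme = (q : ℤ) := by
  show (WeilCoh.dim (U : Scheme.{u}) : ℤ) - WeilCoh.dim ((φ ⁻¹ᵁ U : Y.scheme.Opens) : Scheme.{u}) = q
  omega

/-- Residue after push-forward, through the reduced closed part upstairs. -/
theorem res_push_reduced [hred : T.ResPushClosed] (φ : Y.scheme ⟶ X.scheme) [IsProper φ] {q : ℕ}
    (hdim : WeilCoh.dim Y.scheme + q = WeilCoh.dim X.scheme)
    {s : Finset (X.cdPt (q + 1))} {s' : Finset (Y.cdPt 1)} {Y₁ U : X.scheme.Opens}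
    (hs : IsSplit (q + 1) s Y₁ U) (hs' : IsSplit 1 s' (φ ⁻¹ᵁ Y₁) (φ ⁻¹ᵁ U))
    (hne : s.Nonempty) (hne' : s'.Nonempty) (i n : ℤ) :
    ∃ (h : hs'.decomp.Z.scheme ⟶ hs.decomp.Z.scheme) (_ : IsProper h),
      h ≫ diffι Y₁ U = diffι (φ ⁻¹ᵁ Y₁) (φ ⁻¹ᵁ U) ≫ (φ ∣_ Y₁) ∧
      relCodim hs'.decomp.Z.scheme hs.decomp.Z.scheme = 0 ∧
      ∀ [IsProper (φ ∣_ U)] (i₁ n₁ i₂ n₂ : ℤ) (ha : i₂ = i + 1 - 2 * hs'.decomp.codim)
        (hb : n₂ = n - hs'.decomp.codim)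
        (hc : i₁ = i + 2 * relCodim (Y.res (φ ⁻¹ᵁ U)).scheme (X.res U).scheme)
        (hd : n₁ = n + relCodim (Y.res (φ ⁻¹ᵁ U)).scheme (X.res U).scheme)
        (he : i₂ = i₂ + 2 * relCodim hs'.decomp.Z.scheme hs.decomp.Z.scheme)
        (hk : n₂ = n₂ + relCodim hs'.decomp.Z.scheme hs.decomp.Z.scheme)
        (he' : i₂ = i₁ + 1 - 2 * hs.decomp.codim) (hk' : n₂ = n₁ - hs.decomp.codim)
        (b : T.gp (Y.res (φ ⁻¹ᵁ U)) M i n),
        (T.res hs.decomp M i₁ n₁ i₂ n₂ he' hk').hom ((T.push (φ ∣_ U) M i n i₁ n₁ hc hd).hom b) =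
          (T.push h M i₂ n₂ i₂ n₂ he hk).hom ((T.res hs'.decomp M i n i₂ n₂ ha hb).hom b) := by
  haveI : IsProper (φ ∣_ Y₁) := IsZariskiLocalAtTarget.restrict (P := @IsProper) inferInstance _
  haveI : IsProper (φ ∣_ U) := IsZariskiLocalAtTarget.restrict (P := @IsProper) inferInstance _
  let Zpb : Obj V := ⟨pullback (φ ∣_ Y₁) (diffι Y₁ U),
    IsConstructible.of_isClosedImmersion (pullback.fst (φ ∣_ Y₁) (diffι Y₁ U))
      (h := (inferInstance : IsClosedImmersion (pullback.fst (φ ∣_ Y₁) (diffι Y₁ U)))) (Y.res (φ ⁻¹ᵁ Y₁)).mem⟩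
  let iZ : Zpb.scheme ⟶ (Y.res (φ ⁻¹ᵁ Y₁)).scheme := pullback.fst (φ ∣_ Y₁) (diffι Y₁ U)
  have hι : ∀ w, Y₁.ι ((φ ∣_ Y₁) w) = φ ((φ ⁻¹ᵁ Y₁).ι w) := fun w => by
    rw [← Scheme.Hom.comp_apply, morphismRestrict_ι]; rfl
  have hrange : Set.range iZ = ((φ ⁻¹ᵁ Y₁).ι ⁻¹' ((φ ⁻¹ᵁ U : Y.scheme.Opens) : Set Y.scheme))ᶜ := by
    rw [Scheme.Pullback.range_fst, range_diffι]
    ext w
    show Y₁.ι ((φ ∣_ Y₁) w) ∉ U ↔ ¬ (φ ((φ ⁻¹ᵁ Y₁).ι w) ∈ U)
    rw [hι]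
  let D'' : Decomp (Y.res (φ ⁻¹ᵁ Y₁)) :=
    { Z := Zpb
      U := Y.res (φ ⁻¹ᵁ U)
      i := iZ
      closedImm := inferInstance
      j := hs'.decomp.j
      range_eq := by
        show Set.range hs'.decomp.j.hom = (Set.range iZ)ᶜ
        rw [hrange, hs'.decomp.range_eq]
        exact congrArg _ (range_diffι _ _) }
  obtain ⟨k, hk⟩ : ∃ k : hs'.decomp.Z.scheme ⟶ Zpb.scheme, k ≫ iZ = diffι (φ ⁻¹ᵁ Y₁) (φ ⁻¹ᵁ U) := by
    have hsub : Set.range (diffι (φ ⁻¹ᵁ Y₁) (φ ⁻¹ᵁ U) ≫ (φ ∣_ Y₁)) ⊆ (diffSet Y₁ U : Set _) := by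
      rintro _ ⟨w, rfl⟩ hw
      refine diffι_not_mem (φ ⁻¹ᵁ Y₁) (φ ⁻¹ᵁ U) w ?_
      show φ ((φ ⁻¹ᵁ Y₁).ι _) ∈ U
      rw [← hι]
      exact hw
    obtain ⟨h, hh⟩ := exists_lift_vanishingIdeal (diffι (φ ⁻¹ᵁ Y₁) (φ ⁻¹ᵁ U) ≫ (φ ∣_ Y₁)) (diffSet Y₁ U) hsub
    exact ⟨pullback.lift (diffι (φ ⁻¹ᵁ Y₁) (φ ⁻¹ᵁ U)) h hh.symm, pullback.lift_fst _ _ _⟩
  haveI : IsClosedImmersion (k ≫ iZ) := hk.symm ▸ inferInstance
  haveI : IsClosedImmersion k := IsClosedImmersion.of_comp_isClosedImmersion k iZ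
  haveI hsurj : Surjective k := ⟨fun z => by
    obtain ⟨w, hw⟩ : iZ z ∈ Set.range (diffι (φ ⁻¹ᵁ Y₁) (φ ⁻¹ᵁ U)) :=
      (range_diffι _ _).ge (hrange.le ⟨z, rfl⟩)
    exact ⟨w, iZ.isEmbedding.injective (by rw [← Scheme.Hom.comp_apply, hk]; exact hw)⟩⟩
  have hdimk : WeilCoh.dim hs'.decomp.Z.scheme = WeilCoh.dim Zpb.scheme :=
    natDim_congr (k.isEmbedding.toHomeomorphOfSurjective hsurj.surj).isHomeomorph
  have hcod : D''.codim = hs'.decomp.codim := by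
    show (WeilCoh.dim _ : ℤ) - WeilCoh.dim Zpb.scheme = (WeilCoh.dim _ : ℤ) - WeilCoh.dim hs'.decomp.Z.scheme
    rw [hdimk]
  let fZ : Zpb.scheme ⟶ hs.decomp.Z.scheme := pullback.snd (φ ∣_ Y₁) (diffι Y₁ U)
  haveI : IsProper fZ := inferInstanceAs (IsProper (pullback.snd (φ ∣_ Y₁) (diffι Y₁ U)))
  have hrc : relCodim hs'.decomp.Z.scheme hs.decomp.Z.scheme = 0 := by
    have h1 := hs.dim_diffObj hne
    have h2 := hs'.dim_diffObj hne'
    show (WeilCoh.dim (diffObj Y₁ U).scheme : ℤ) - WeilCoh.dim (diffObj (φ ⁻¹ᵁ Y₁) (φ ⁻¹ᵁ U)).scheme = 0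
    omega
  refine ⟨k ≫ fZ, inferInstance, ?_, hrc, ?_⟩
  · rw [Category.assoc, ← hk, Category.assoc]
    exact congrArg (k ≫ ·) pullback.condition.symm
  intro _ i₁ n₁ i₂ n₂ ha hb hc hd he hk₂ he' hk' b
  have hrk : relCodim hs'.decomp.Z.scheme Zpb.scheme = 0 := by
    show (WeilCoh.dim Zpb.scheme : ℤ) - WeilCoh.dim hs'.decomp.Z.scheme = 0
    rw [hdimk]; ring
  have hrZ : relCodim Zpb.scheme hs.decomp.Z.scheme = 0 := by
    rw [← hrc]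
    show (WeilCoh.dim hs.decomp.Z.scheme : ℤ) - WeilCoh.dim Zpb.scheme = (WeilCoh.dim hs.decomp.Z.scheme : ℤ) - WeilCoh.dim hs'.decomp.Z.scheme
    rw [hdimk]
  have hrp := congrArg (fun ψ => ψ.hom b) (T.res_push hs.decomp D'' (φ ∣_ Y₁) fZ (φ ∣_ U)
    (IsPullback.of_hasPullback (φ ∣_ Y₁) (diffι Y₁ U))
    (isPullback_restrict_le φ hs.le)
    M i n i₂ n₂ i₁ n₁ i₂ n₂ (by rw [hcod]; exact ha) (by rw [hcod]; exact hb) hc hd
    (by rw [hrZ]; ring) (by rw [hrZ]; ring) he' hk')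
  have hcl := congrArg (fun ψ => ψ.hom b) (hred.res_push_closed (Y.res (φ ⁻¹ᵁ Y₁)) D'' hs'.decomp
    (𝟙 (Y.res (φ ⁻¹ᵁ U))) k (Category.id_comp _) hk M i n i₂ n₂
    (by rw [hcod]; exact ha) (by rw [hcod]; exact hb) ha hb (by rw [hrk]; ring) (by rw [hrk]; ring))
  simp only [ModuleCat.hom_comp, LinearMap.comp_apply] at hrp hcl
  erw [pull_id] at hcl
  refine hrp.symm.trans ?_
  erw [← hcl]
  exact congrFun (congrArg (fun ψ => ⇑(ModuleCat.Hom.hom ψ)) (T.push_comp k fZ M i₂ n₂ i₂ n₂ i₂ n₂ (by rw [hrk]; ring) (by rw [hrk]; ring)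
    (by rw [hrZ]; ring) (by rw [hrZ]; ring) he hk₂)) _

end Groth.Agent.BMCohLib
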