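import Groth.Agent.BMCohLib.Vanishing

/-!
# Vanishing on closed subobjects makes restriction bijective
-/

set_option autoImplicit false
set_option linter.style.haveILetI false
set_option backward.isDefEq.respectTransparency false
set_option backward.defeqAttrib.useBackward true

universe u

open AlgebraicGeometry CategoryTheory CategoryTheory.Limits Opposite BMCoh TopologicalSpace Topology

namespace Groth.Agent.BMCohLib

variable {V : ObjectProperty Scheme.{u}} [IsConstructible V] {R : Type u} [CommRing R] {A : Coefs R}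
  {T : PreTheory V R A} {X : Obj V} {j : ℕ} (M : A.Cat)

theorem pdim_diffObj {Y U : X.scheme.Opens} (z : (diffObj Y U).scheme) :
    WeilCoh.pdim (diffObj Y U).scheme z = WeilCoh.pdim X.scheme (Y.ι (diffι Y U z)) := by
  have hemb : IsEmbedding (Y.ι ∘ diffι Y U) := Y.ι.isEmbedding.comp (diffι Y U).isEmbedding
  set x := Y.ι (diffι Y U z) with hx
  rw [← dim_open_ptSub X x _ (preimage_nonempty X (show x ∈ Y from (diffι Y U z).2))]
  have hpe : IsEmbedding ((X.ptSubι x) ∘ ((X.ptSubι x) ⁻¹ᵁ Y).ι) :=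
    (X.ptSubι x).isEmbedding.comp (Scheme.Opens.ι _).isEmbedding
  refine (natDim_eq_of_range_eq hpe (hemb.comp IsEmbedding.subtypeVal) ?_).symm
  ext y
  constructor
  · rintro ⟨w, rfl⟩
    obtain ⟨z', hz'⟩ : (⟨_, w.2⟩ : (Y : Scheme.{u})) ∈ Set.range (diffι Y U) :=
      (range_diffι Y U).ge fun h => diffι_not_mem Y U z ((ptSubι_specializes x _).mem_open U.2 h)
    have e : Y.ι (diffι Y U z') = X.ptSubι x w.1 := by rw [hz']; rfl
    refine ⟨⟨z', specializes_iff_mem_closure.mp (hemb.isInducing.specializes_iff.mp ?_)⟩, e⟩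
    show Y.ι (diffι Y U z) ⤳ Y.ι (diffι Y U z')
    rw [e]
    exact ptSubι_specializes x _
  · rintro ⟨⟨z', hz'⟩, rfl⟩
    have hsp := (specializes_iff_mem_closure.mpr hz').map hemb.continuous
    obtain ⟨w, hw⟩ := mem_ptSubι_range.mpr (show x ⤳ Y.ι (diffι Y U z') from hsp)
    exact ⟨⟨w, show X.ptSubι x w ∈ Y from hw ▸ (diffι Y U z').2⟩, hw⟩

/-- An open difference whose closed part has exact codimension `c`. -/
structure IsDiff (c : ℕ) (Y U : X.scheme.Opens) : Prop where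
  le : U ≤ Y
  dimY : WeilCoh.dim (Y : Scheme.{u}) = WeilCoh.dim X.scheme
  dimU : WeilCoh.dim (U : Scheme.{u}) = WeilCoh.dim X.scheme
  lower : ∀ y ∈ Y, y ∉ U → c ≤ WeilCoh.codim X.scheme y
  witness : ∃ y ∈ Y, y ∉ U ∧ WeilCoh.codim X.scheme y = c

instance isClosedImmersion_topι : IsClosedImmersion (⊤ : X.scheme.Opens).ι :=
  IsClosedImmersion.of_isPreimmersion _ (by rw [Scheme.Opens.range_ι]; exact isClosed_univ)

namespace IsDiff

variable {c : ℕ} {Y U : X.scheme.Opens}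

theorem dim_add (hd : IsDiff c Y U) : WeilCoh.dim (diffObj Y U).scheme + c = WeilCoh.dim X.scheme := by
  obtain ⟨y, hyY, hyU, hy⟩ := hd.witness
  obtain ⟨z₀, hz₀⟩ : (⟨y, hyY⟩ : (Y : Scheme.{u})) ∈ Set.range (diffι Y U) := (range_diffι Y U).ge hyU
  have h0 := pdim_diffObj z₀
  rw [hz₀, show Y.ι ⟨y, hyY⟩ = y from rfl] at h0
  have h1 := pdim_le (diffObj Y U) z₀
  have h2 := pdim_add_codim X y
  haveI : Nonempty (diffObj Y U).scheme := ⟨z₀⟩
  obtain ⟨z, hz⟩ := exists_natDim_closure_eq (dim_lt_top (diffObj Y U))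
    (k := WeilCoh.dim (diffObj Y U).scheme) le_rfl
  have hz' : WeilCoh.pdim (diffObj Y U).scheme z = WeilCoh.dim (diffObj Y U).scheme := hz
  rw [pdim_diffObj z] at hz'
  have h3 : c ≤ WeilCoh.codim X.scheme (Y.ι (diffι Y U z)) :=
    hd.lower _ (diffι Y U z).2 (diffι_not_mem Y U z)
  have h4 := pdim_add_codim X (Y.ι (diffι Y U z))
  omega

theorem codim_add (hd : IsDiff c Y U) (z : (diffObj Y U).scheme) :
    WeilCoh.codim (diffObj Y U).scheme z + c = WeilCoh.codim X.scheme (Y.ι (diffι Y U z)) := by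
  have h1 := pdim_diffObj z
  have h2 := pdim_add_codim (diffObj Y U) z
  have h3 := pdim_add_codim X (Y.ι (diffι Y U z))
  have h4 := hd.dim_add
  omega

/-- The decomposition. -/
noncomputable def decomp (hd : IsDiff c Y U) : Decomp (X.res Y) where
  Z := diffObj Y U
  U := X.res U
  i := diffι Y U
  closedImm := inferInstance
  j := X.resLE hd.le (hd.dimU.trans hd.dimY.symm)
  range_eq := by
    show Set.range (X.scheme.homOfLE hd.le) = (Set.range (diffι Y U))ᶜ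
    rw [range_diffι, compl_compl]
    ext y
    constructor
    · rintro ⟨w, rfl⟩
      show Y.ι (X.scheme.homOfLE hd.le w) ∈ U
      rw [← Scheme.Hom.comp_apply, Scheme.homOfLE_ι]
      exact w.2
    · intro hy
      exact ⟨⟨Y.ι y, hy⟩, Y.ι.isEmbedding.injective
        (by rw [← Scheme.Hom.comp_apply, Scheme.homOfLE_ι]; rfl)⟩

theorem relCodim_eq (hd : IsDiff c Y U) : relCodim (diffObj Y U).scheme (X.res Y).scheme = (c : ℤ) := by
  have := hd.dim_add
  show (WeilCoh.dim (Y : Scheme.{u}) : ℤ) - WeilCoh.dim (diffObj Y U).scheme = c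
  rw [hd.dimY]
  omega

theorem codim_eq (hd : IsDiff c Y U) : hd.decomp.codim = (c : ℤ) := hd.relCodim_eq

theorem exists_hom (hd : IsDiff c Y U) {Y' : X.scheme.Opens} (hd' : IsDiff c Y' U) (hle : Y' ≤ Y) :
    ∃ k : hd'.decomp.Z ⟶ hd.decomp.Z, k.hom ≫ diffι Y U = diffι Y' U ≫ X.scheme.homOfLE hle ∧
      IsPullback k.hom (diffι Y' U) (diffι Y U) (X.scheme.homOfLE hle) ∧
      Set.range k.hom = (Y.ι ∘ diffι Y U) ⁻¹' (Y' : Set X.scheme) ∧
      ∀ w, Y.ι (diffι Y U (k.hom w)) = Y'.ι (diffι Y' U w) := by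
  have hY : ∀ z, Y.ι ((diffι Y' U ≫ X.scheme.homOfLE hle) z) = Y'.ι (diffι Y' U z) := fun z => by
    rw [← Scheme.Hom.comp_apply, Category.assoc, Scheme.homOfLE_ι]; rfl
  obtain ⟨k, hk⟩ := exists_lift_vanishingIdeal (diffι Y' U ≫ X.scheme.homOfLE hle) (diffSet Y U) (by
    rintro _ ⟨z, rfl⟩ (hz : Y.ι _ ∈ U)
    rw [hY] at hz
    exact diffι_not_mem Y' U z hz)
  haveI : IsPreimmersion (k ≫ diffι Y U) := hk.symm ▸ inferInstance
  haveI : IsPreimmersion k := IsPreimmersion.of_comp k (diffι Y U)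
  have hr : Set.range k = (Y.ι ∘ diffι Y U) ⁻¹' (Y' : Set X.scheme) := by
    ext z
    constructor
    · rintro ⟨w, rfl⟩
      show Y.ι (diffι Y U (k w)) ∈ Y'
      rw [← Scheme.Hom.comp_apply (f := k), hk, hY]
      exact (diffι Y' U w).2
    · intro hz
      obtain ⟨w, hw⟩ : (⟨Y.ι (diffι Y U z), hz⟩ : (Y' : Scheme.{u})) ∈ Set.range (diffι Y' U) :=
        (range_diffι Y' U).ge fun h => diffι_not_mem Y U z h
      refine ⟨w, (Y.ι.isEmbedding.comp (diffι Y U).isEmbedding).injective ?_⟩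
      show Y.ι (diffι Y U (k w)) = Y.ι (diffι Y U z)
      rw [← Scheme.Hom.comp_apply (f := k), hk, hY, hw]
      rfl
  haveI hko : IsOpenImmersion k := isOpenImmersion_of_isOpen_range (S := (diffObj Y U).scheme) k
    (by rw [hr]; exact Y'.2.preimage (Y.ι.continuous.comp (diffι Y U).continuous))
  refine ⟨⟨k, hko, ?_⟩, hk, (IsOpenImmersion.isPullback (diffι Y' U) k (X.scheme.homOfLE hle) (diffι Y U) hk ?_).flip, hr, fun w => ?_⟩
  · have h1 := hd.dim_add
    have h2 := hd'.dim_add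
    show WeilCoh.dim (diffObj Y' U).scheme = WeilCoh.dim (diffObj Y U).scheme
    omega
  · refine TopologicalSpace.Opens.ext ?_
    show (diffι Y U) ⁻¹' Set.range (X.scheme.homOfLE hle) = Set.range k
    rw [hr]
    ext z
    simp only [Set.mem_preimage, Set.mem_range, Function.comp_apply]
    constructor
    · rintro ⟨w, hw⟩
      rw [← hw, ← Scheme.Hom.comp_apply, Scheme.homOfLE_ι]
      exact w.2
    · intro hz
      exact ⟨⟨Y.ι (diffι Y U z), hz⟩, Y.ι.isEmbedding.injective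
        (by rw [← Scheme.Hom.comp_apply, Scheme.homOfLE_ι]; rfl)⟩
  · show Y.ι (diffι Y U (k w)) = Y'.ι (diffι Y' U w)
    rw [← Scheme.Hom.comp_apply (f := k), hk, hY]

/-- The open of the larger set obtained by deleting what lies outside an open of the closed part. -/
noncomputable def delOpen (hd : IsDiff c (⊤ : X.scheme.Opens) U) (O : (diffObj ⊤ U).scheme.Opens) :
    X.scheme.Opens :=
  ⟨((diffι ⊤ U ≫ (⊤ : X.scheme.Opens).ι) '' (O : Set (diffObj ⊤ U).scheme)ᶜ)ᶜ,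
    ((diffι ⊤ U ≫ (⊤ : X.scheme.Opens).ι).isClosedMap _ O.2.isClosed_compl).isOpen_compl⟩

theorem delOpen_spec (hd : IsDiff c (⊤ : X.scheme.Opens) U) (m : ℕ)
    (O : (diffObj ⊤ U).scheme.Opens) (hO : ContainsFj (diffObj ⊤ U) m O) :
    U ≤ hd.delOpen O ∧ ContainsFj X (c + m) (hd.delOpen O) ∧
      ((⊤ : X.scheme.Opens).ι ∘ diffι ⊤ U) ⁻¹' (hd.delOpen O : Set X.scheme) ⊆ O := by
  refine ⟨fun y hy ⟨z, _, hz⟩ => ?_, fun y hy ⟨z, hz, hzy⟩ => ?_, fun z hz => ?_⟩
  · refine diffι_not_mem ⊤ U z ?_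
    rw [← Scheme.Hom.comp_apply, hz]
    exact hy
  · rw [← hzy, Scheme.Hom.comp_apply] at hy
    exact hz (hO z (by have := hd.codim_add z; omega))
  · by_contra h
    exact hz ⟨z, h, rfl⟩

end IsDiff

/-- A set of points of exact codimension can be removed from any member of the family. -/
theorem exists_isDiff_top (U : Idx X (ContainsFj X j)) (hj : j + 1 ≤ WeilCoh.dim X.scheme) [Nonempty X.scheme] :
    ∃ U' : Idx X (ContainsFj X j), U'.1 ≤ U.1 ∧ IsDiff (j + 1) (⊤ : X.scheme.Opens) U'.1 := by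
  obtain ⟨x, hx⟩ := exists_codim_eq X hj
  let U' := mkIdx X j _ (containsFj_inf X U.2.1 (containsFj_compl_closure (X := X) (j := j) hx.ge))
  exact ⟨U', inf_le_left, le_top, dim_top X.scheme, U'.2.2, fun y _ hy => not_mem_of_codim_le U'.2.1 hy,
    x, trivial, fun h => h.2 (subset_closure rfl), hx⟩

theorem IsDiff.of_le {c m : ℕ} {U : X.scheme.Opens} (hd : IsDiff c (⊤ : X.scheme.Opens) U)
    (Y : Idx X (ContainsFj X (c + m))) (hle : U ≤ Y.1) : IsDiff c Y.1 U := by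
  obtain ⟨y, -, hyU, hy⟩ := hd.witness
  exact ⟨hle, Y.2.2, hd.dimU, fun y _ => hd.lower y trivial, y, Y.2.1 y (by omega), hyU, hy⟩

theorem fjGp_zero_of_isZero {Z : Obj V} {m : ℕ} {i n : ℤ} (h : IsZero (T.fjGp Z m M i n))
    (O : Idx Z (ContainsFj Z m)) (a : T.gp (Z.res O.1) M i n) :
    ∃ (O' : Idx Z (ContainsFj Z m)) (hle : O'.1 ≤ O.1), (resI T Z _ M i n hle).hom a = 0 := by
  haveI := ModuleCat.subsingleton_of_isZero h
  exact exists_zero T Z _ M i n (Subsingleton.elim _ _)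

/-- Vanishing on closed parts of codimension one more makes restriction bijective. -/
theorem fjRes_bijective_of_closed (m : ℕ) (i n : ℤ)
    (hZ : ∀ (Z : Obj V) (ι : Z.scheme ⟶ X.scheme) [IsClosedImmersion ι] [IsReduced Z.scheme],
      WeilCoh.dim Z.scheme + (j + 1) = WeilCoh.dim X.scheme →
      IsZero (T.fjGp Z m M (i - 2 * ((j : ℤ) + 1)) (n - ((j : ℤ) + 1))) ∧
        IsZero (T.fjGp Z m M (i + 1 - 2 * ((j : ℤ) + 1)) (n - ((j : ℤ) + 1))))
    (h : j ≤ j + 1 + m) : Function.Bijective ((T.fjRes X h i n).app M).hom := by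
  by_cases hj : j + 1 ≤ WeilCoh.dim X.scheme ∧ Nonempty X.scheme
  swap
  · have htop : ∀ {k : ℕ} (U : X.scheme.Opens), ContainsFj X j U → ContainsFj X k U := fun {k} U hU y _ => by
      refine hU y ?_
      by_contra hlt
      have := pdim_add_codim X y
      exact hj ⟨by omega, ⟨y⟩⟩
    constructor
    · rw [injective_iff_map_eq_zero]
      intro a ha
      obtain ⟨Y, y, rfl⟩ := exists_rep T X _ M i n a
      rw [ocolimMap_ι_apply] at ha
      obtain ⟨U, hle, hU⟩ := exists_zero T X _ M i n ha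
      rw [← ι_resI_apply T X _ M i n (U := ⟨U.1, htop U.1 U.2.1, U.2.2⟩) (U' := Y) hle]
      exact (congrArg _ hU).trans (map_zero _)
    · intro a
      obtain ⟨U, b, rfl⟩ := exists_rep T X _ M i n a
      exact ⟨((T.fjι X (j + 1 + m) i n ⟨U.1, htop U.1 U.2.1, U.2.2⟩).app M).hom b,
        ocolimMap_ι_apply T X _ M i n (containsFj_mono X h) ⟨U.1, htop U.1 U.2.1, U.2.2⟩ b⟩
  obtain ⟨hj, hne⟩ := hj
  constructor
  · rw [injective_iff_map_eq_zero]
    intro a ha
    obtain ⟨Y₀, y, rfl⟩ := exists_rep T X _ M i n a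
    rw [ocolimMap_ι_apply] at ha
    obtain ⟨U₀, hle₀, hU₀⟩ := exists_zero T X _ M i n ha
    obtain ⟨U, hU, hT⟩ := exists_isDiff_top U₀ hj
    have hd := hT.of_le Y₀ (hU.trans hle₀)
    obtain ⟨k, hk, -, hkr, hkp⟩ := hT.exists_hom hd le_top
    have h0 : (T.pull hd.decomp.j M i n).hom y = 0 :=
      pull_resLE_eq_zero T M X hU hle₀ _ (hd.dimU.trans U₀.2.2.symm) (U₀.2.2.trans Y₀.2.2.symm) _ i n y hU₀
    have e1 : i = (i - 2 * ((j : ℤ) + 1)) + 2 * relCodim hd.decomp.Z.scheme (X.res Y₀.1).scheme := by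
      rw [show relCodim hd.decomp.Z.scheme (X.res Y₀.1).scheme = ((j + 1 : ℕ) : ℤ) from hd.relCodim_eq]
      push_cast; ring
    have e2 : n = (n - ((j : ℤ) + 1)) + relCodim hd.decomp.Z.scheme (X.res Y₀.1).scheme := by
      rw [show relCodim hd.decomp.Z.scheme (X.res Y₀.1).scheme = ((j + 1 : ℕ) : ℤ) from hd.relCodim_eq]
      push_cast; ring
    obtain ⟨z, hz⟩ := (exact_push_pull_apply T M hd.decomp i n _ _ e1 e2 y).mp h0
    have hO : ContainsFj hT.decomp.Z m k.hom.opensRange := fun w hw => by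
      refine hkr.ge ?_
      show (⊤ : X.scheme.Opens).ι (diffι ⊤ U.1 w) ∈ Y₀.1
      have hw' : WeilCoh.codim (diffObj ⊤ U.1).scheme w ≤ m := hw
      exact Y₀.2.1 _ (by have := hT.codim_add w; omega)
    let O : Idx hT.decomp.Z (ContainsFj hT.decomp.Z m) := mkIdx _ m _ hO
    let g : hd.decomp.Z ⟶ hT.decomp.Z.res O.1 :=
      ⟨(homLift k O.1 le_rfl).hom, inferInstance, k.dim_eq.trans O.2.2.symm⟩
    have hg : g ≫ hT.decomp.Z.resι O.1 O.2.2 = k := Hom.ext (IsOpenImmersion.lift_fac _ _ _)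
    have hsurj : Function.Surjective g.hom := fun o => by
      obtain ⟨w, hw⟩ := o.2
      refine ⟨w, O.1.ι.isEmbedding.injective ?_⟩
      rw [← Scheme.Hom.comp_apply]
      exact (congrArg (fun f : hd.decomp.Z ⟶ hT.decomp.Z => f.hom w) hg).trans hw
    obtain ⟨z₀, rfl⟩ := (pull_bijective_of_isIso (T := T) M g hsurj _ _).2 z
    obtain ⟨O', hle, hz₀⟩ := fjGp_zero_of_isZero M
      (hZ (diffObj ⊤ U.1) (diffι ⊤ U.1 ≫ (⊤ : X.scheme.Opens).ι) hT.dim_add).1 O z₀
    obtain ⟨hUY, hFj, hpre⟩ := hT.delOpen_spec m O'.1 O'.2.1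
    let Y := mkIdx X (j + 1 + m) (Y₀.1 ⊓ hT.delOpen O'.1) (containsFj_inf X Y₀.2.1 hFj)
    have hd' := hT.of_le Y (le_inf hd.le hUY)
    obtain ⟨k', hk', hsq, hk'r, hk'p⟩ := hd.exists_hom hd' (inf_le_left : Y.1 ≤ Y₀.1)
    rw [← ι_resI_apply T X _ M i n (U := Y) (U' := Y₀) inf_le_left]
    refine (congrArg _ ?_).trans (map_zero _)
    rw [← hz]
    have e1' : i = (i - 2 * ((j : ℤ) + 1)) + 2 * relCodim hd'.decomp.Z.scheme (X.res Y.1).scheme := by
      rw [show relCodim hd'.decomp.Z.scheme (X.res Y.1).scheme = ((j + 1 : ℕ) : ℤ) from hd'.relCodim_eq]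
      push_cast; ring
    have e2' : n = (n - ((j : ℤ) + 1)) + relCodim hd'.decomp.Z.scheme (X.res Y.1).scheme := by
      rw [show relCodim hd'.decomp.Z.scheme (X.res Y.1).scheme = ((j + 1 : ℕ) : ℤ) from hd'.relCodim_eq]
      push_cast; ring
    have hsw := congrArg (fun φ => φ.hom ((T.pull g M _ _).hom z₀))
      (T.push_pull hd.decomp.i hd'.decomp.i (X.resLE (inf_le_left : Y.1 ≤ Y₀.1) (Y.2.2.trans Y₀.2.2.symm)) k' hsq M
        _ _ i n e1 e2 e1' e2')
    refine hsw.trans (show (T.push hd'.decomp.i M _ _ i n e1' e2').hom ((T.pull k' M _ _).hom _) = 0 from ?_)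
    have hrange : Set.range (k' ≫ g).hom ⊆
        Set.range (hT.decomp.Z.resLE hle (O'.2.2.trans O.2.2.symm)).hom := by
      rintro _ ⟨w, rfl⟩
      have hmem : k.hom (k'.hom w) ∈ O'.1 := by
        refine hpre ?_
        show (⊤ : X.scheme.Opens).ι (diffι ⊤ U.1 (k.hom (k'.hom w))) ∈ hT.delOpen O'.1
        exact (hkp (k'.hom w)).symm ▸ (hk'r.le ⟨w, rfl⟩ : Y₀.1.ι (diffι Y₀.1 U.1 (k'.hom w)) ∈ Y.1).2
      refine ⟨⟨_, hmem⟩, O.1.ι.isEmbedding.injective ?_⟩
      show O.1.ι (hT.decomp.Z.scheme.homOfLE hle ⟨_, hmem⟩) = O.1.ι (g.hom (k'.hom w))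
      refine ((Scheme.Hom.comp_apply _ _ _).symm.trans
        (congrArg (fun f : (O'.1 : Scheme.{u}) ⟶ hT.decomp.Z.scheme => f ⟨_, hmem⟩) (Scheme.homOfLE_ι _ hle))).trans ?_
      exact (congrArg (fun f : hd.decomp.Z ⟶ hT.decomp.Z => f.hom (k'.hom w)) hg).symm.trans
        (Scheme.Hom.comp_apply g.hom O.1.ι _)
    let g'' : hd'.decomp.Z ⟶ hT.decomp.Z.res O'.1 :=
      ⟨IsOpenImmersion.lift (hT.decomp.Z.resLE hle (O'.2.2.trans O.2.2.symm)).hom (k' ≫ g).hom hrange,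
        inferInstance, (k' ≫ g).dim_eq.trans (O.2.2.trans O'.2.2.symm)⟩
    have hg'' : g'' ≫ hT.decomp.Z.resLE hle (O'.2.2.trans O.2.2.symm) = k' ≫ g :=
      Hom.ext (IsOpenImmersion.lift_fac _ _ _)
    rw [pull_pull_apply, ← hg'', ← pull_pull_apply]
    exact (congrArg _ ((congrArg _ hz₀).trans (map_zero _))).trans (map_zero _)
  · intro a
    obtain ⟨U₀, b₀, rfl⟩ := exists_rep T X _ M i n a
    obtain ⟨U, hU, hT⟩ := exists_isDiff_top U₀ hj
    rw [← ι_resI_apply T X _ M i n (U := U) (U' := U₀) hU]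
    generalize (resI T X (ContainsFj X j) M i n hU).hom b₀ = b
    have e1 : i + 1 - 2 * ((j : ℤ) + 1) = i + 1 - 2 * hT.decomp.codim := by rw [hT.codim_eq]; push_cast; ring
    have e2 : n - ((j : ℤ) + 1) = n - hT.decomp.codim := by rw [hT.codim_eq]; push_cast; ring
    let w := (T.res hT.decomp M i n _ _ e1 e2).hom b
    let top : Idx hT.decomp.Z (ContainsFj hT.decomp.Z m) := mkIdx _ m ⊤ fun _ _ => trivial
    obtain ⟨O', hle, hw⟩ := fjGp_zero_of_isZero M
      (hZ (diffObj ⊤ U.1) (diffι ⊤ U.1 ≫ (⊤ : X.scheme.Opens).ι) hT.dim_add).2 top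
      ((T.pull (hT.decomp.Z.resι top.1 top.2.2) M _ _).hom w)
    obtain ⟨hUY, hFj, hpre⟩ := hT.delOpen_spec m O'.1 O'.2.1
    let Y := mkIdx X (j + 1 + m) (hT.delOpen O'.1) hFj
    have hd := hT.of_le Y hUY
    obtain ⟨k, hk, -, hkr, hkp⟩ := hT.exists_hom hd le_top
    let g := homLift k O'.1 (hkr.le.trans hpre)
    have hg : g ≫ hT.decomp.Z.resLE hle (O'.2.2.trans top.2.2.symm) ≫ hT.decomp.Z.resι top.1 top.2.2 = k := by
      refine Hom.ext ?_
      show g.hom ≫ hT.decomp.Z.scheme.homOfLE hle ≫ top.1.ι = k.hom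
      rw [Scheme.homOfLE_ι]
      exact IsOpenImmersion.lift_fac _ _ _
    have hres := congrArg (fun φ => φ.hom b) (T.res_pull hT.decomp hd.decomp
      (X.resLE (le_top : Y.1 ≤ ⊤) (Y.2.2.trans (dim_top X.scheme).symm)) k (𝟙 _) hk
      (Hom.ext ((Category.id_comp (X.scheme.homOfLE hT.le)).trans
        (Scheme.homOfLE_homOfLE X.scheme hd.le le_top).symm))
      M i n _ _ e1 e2 (by rw [hd.codim_eq]; push_cast; ring) (by rw [hd.codim_eq]; push_cast; ring))
    simp only [ModuleCat.hom_comp, LinearMap.comp_apply] at hres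
    erw [pull_id] at hres
    have hz : (T.res hd.decomp M i n (i + 1 - 2 * ((j : ℤ) + 1)) (n - ((j : ℤ) + 1))
        (by rw [hd.codim_eq]; push_cast; ring) (by rw [hd.codim_eq]; push_cast; ring)).hom b = 0 := by
      refine hres.symm.trans ?_
      show (T.pull k M _ _).hom w = 0
      rw [← hg, ← pull_pull_apply, ← pull_pull_apply]
      exact (congrArg _ hw).trans (map_zero _)
    obtain ⟨a', ha'⟩ := (T.exact_pull_res hd.decomp M i n _ _ _ _ b).mp hz
    refine ⟨((T.fjι X (j + 1 + m) i n Y).app M).hom a', ?_⟩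
    rw [ocolimMap_ι_apply, ← ι_resI_apply T X _ M i n (U := U) (U' := ⟨Y.1, containsFj_mono X h _ Y.2.1, Y.2.2⟩) hUY]
    exact congrArg _ ha'

end Groth.Agent.BMCohLib
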