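import Groth.Agent.BMCohLib.Cartesian

/-!
# The residue at the points below a point, computed on a finite cover of its closure
-/

set_option autoImplicit false
set_option linter.style.haveILetI false
set_option backward.isDefEq.respectTransparency false
set_option backward.defeqAttrib.useBackward true

universe u

open AlgebraicGeometry CategoryTheory CategoryTheory.Limits Opposite BMCoh TopologicalSpace Topology
open DirectSum

namespace Groth.Agent.BMCohLib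

variable {V : ObjectProperty Scheme.{u}} [IsConstructible V] {R : Type u} [CommRing R] {A : Coefs R}
  {T : PreTheory V R A} {X Y : Obj V} (M : A.Cat)

theorem containsFj_preimage (φ : Y.scheme ⟶ X.scheme) [IsIntegralHom φ] {q j : ℕ}
    (hdim : WeilCoh.dim Y.scheme + q = WeilCoh.dim X.scheme) {U : X.scheme.Opens}
    (hU : ContainsFj X (q + j) U) : ContainsFj Y j (φ ⁻¹ᵁ U) := fun z hz =>
  hU (φ z) (by rw [codim_map_eq φ hdim z]; omega)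

theorem exists_open_preimage_le (φ : Y.scheme ⟶ X.scheme) [IsIntegralHom φ] {q j : ℕ}
    (hdim : WeilCoh.dim Y.scheme + q = WeilCoh.dim X.scheme) {O : Y.scheme.Opens} (hO : ContainsFj Y j O) :
    ∃ U : Idx X (ContainsFj X (q + j)), φ ⁻¹ᵁ U.1 ≤ O ∧ ∀ x, (∀ z, φ z = x → z ∈ O) → x ∈ U.1 := by
  refine ⟨mkIdx X _ ⟨(φ '' (O : Set Y.scheme)ᶜ)ᶜ, (φ.isClosedMap _ O.2.isClosed_compl).isOpen_compl⟩
    fun x hx ⟨z, hz, hzx⟩ => hz (hO z ?_), fun z hz => ?_, fun x hx ⟨z, hz, hzx⟩ => hz (hx z hzx)⟩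
  · rw [← hzx, codim_map_eq φ hdim z] at hx
    omega
  · by_contra h
    exact hz ⟨z, h, rfl⟩

section

open Classical

theorem resTot_pushCpt_eq_famTot [T.ResPushClosed] (φ : Y.scheme ⟶ X.scheme) [IsProper φ] [IsIntegralHom φ]
    (q : ℕ) (w : X.cdPt q) (η : Y.cdPt 0) (hη : φ η.1 = w.1)
    (P : T.PushData X q) (Q : T.ResData X q) (L : T.PtPush φ η.1 w.1)
    (P' : T.PushData Y 0) (Q' : T.ResData Y 0) (t : Y.cdPt 1 → X.cdPt (q + 1))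
    (F : ∀ y : Y.cdPt 1, T.PtPush φ y.1 (t y).1)
    (i n i₁ n₁ i₂ n₂ : ℤ) (h1 : i₁ = i + 2 * (q : ℤ)) (h1' : n₁ = n + (q : ℤ))
    (h2 : i₂ = i₁ + 1 - 2 * ((q : ℤ) + 1)) (h2' : n₂ = n₁ - ((q : ℤ) + 1))
    (h3 : i = i + 2 * ((0 : ℕ) : ℤ)) (h3' : n = n + ((0 : ℕ) : ℤ))
    (h4 : i₂ = i + 1 - 2 * (((0 : ℕ) : ℤ) + 1)) (h4' : n₂ = n - (((0 : ℕ) : ℤ) + 1))
    (a : T.ptGp Y η.1 M i n) :
    (Q.tot M i₁ n₁ i₂ n₂ h2 h2').hom ((P.cpt w M i n i₁ n₁ h1 h1').hom ((L.cpt M i n).hom a)) =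
      (PreTheory.PtPush.famTot t F M i₂ n₂).hom
        ((Q'.tot M i n i₂ n₂ h4 h4').hom ((P'.cpt η M i n i n h3 h3').hom a)) := by
  have hdim : WeilCoh.dim Y.scheme + q = WeilCoh.dim X.scheme := by
    have h0 := pdim_map_eq φ η.1
    rw [hη] at h0
    have hY := pdim_add_codim Y η.1
    have hX := pdim_add_codim X w.1
    rw [η.2] at hY
    rw [w.2] at hX
    omega
  obtain ⟨W, b0, rfl⟩ := exists_rep T (Y.ptSub η.1) _ M i n a
  obtain ⟨O, hO, rfl⟩ := exists_piece_eq (j := 0) η.2.ge W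
  obtain ⟨U, hUO, hUmem⟩ := exists_open_preimage_le φ hdim (j := 0) O.2.1
  let U'' : Idx Y (ContainsFj Y 0) := mkIdx Y 0 (φ ⁻¹ᵁ U.1) (containsFj_preimage φ hdim (by exact U.2.1))
  have hwU : w.1 ∈ U.1 := U.2.1 w.1 w.2.le
  have hηU : η.1 ∈ (φ ⁻¹ᵁ U.1) := U''.2.1 η.1 η.2.le
  rw [← ι_resI_apply T (Y.ptSub η.1) _ M i n (U := piece η.1 (φ ⁻¹ᵁ U.1) hηU) (U' := piece η.1 O.1 hO)
    ((Y.ptSubι η.1).preimage_mono hUO)]
  generalize (resI T (Y.ptSub η.1) _ M i n (U := piece η.1 (φ ⁻¹ᵁ U.1) hηU) (U' := piece η.1 O.1 hO)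
    ((Y.ptSubι η.1).preimage_mono hUO)).hom b0 = z0
  let b : T.gp (Y.res (φ ⁻¹ᵁ U.1)) M i n := (pushPiece T M 0 η.1 η.2 U'' hηU i n i n h3 h3').hom z0
  haveI : IsProper (φ ∣_ U.1) := IsZariskiLocalAtTarget.restrict (P := @IsProper) inferInstance _
  have hrU : relCodim (Y.res (φ ⁻¹ᵁ U.1)).scheme (X.res U.1).scheme = (q : ℤ) :=
    relCodim_restrict φ hdim U.1 U.2.2 U''.2.2
  let c : T.gp (X.res U.1) M i₁ n₁ := (T.push (X := Y.res (φ ⁻¹ᵁ U.1)) (Y := X.res U.1) (φ ∣_ U.1) M i n i₁ n₁ (by rw [hrU]; exact h1) (by rw [hrU]; exact h1')).hom b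
  have hR : (P'.cpt η M i n i n h3 h3').hom (((T.ptι Y η.1 i n (piece η.1 (φ ⁻¹ᵁ U.1) hηU)).app M).hom z0) =
      ((T.fjι Y 0 i n U'').app M).hom b := pushCpt_eq M P' η U'' hηU i n i n h3 h3' z0
  have hL : (P.cpt w M i n i₁ n₁ h1 h1').hom ((L.cpt M i n).hom
      (((T.ptι Y η.1 i n (piece η.1 (φ ⁻¹ᵁ U.1) hηU)).app M).hom z0)) = ((T.fjι X q i₁ n₁ U).app M).hom c := by
    obtain ⟨f, hf, hf1, hf2⟩ := exists_piece_map φ U.1 η.1 hη hηU hwU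
    haveI := hf
    have hdd := dim_eq_of_ptPush L
    have hr : relCodim ((Y.ptSub η.1).res (piece η.1 (φ ⁻¹ᵁ U.1) hηU).1).scheme
        ((X.ptSub w.1).res (piece w.1 U.1 hwU).1).scheme = 0 := by
      have e1 := (piece η.1 (φ ⁻¹ᵁ U.1) hηU).2.2
      have e2 := (piece w.1 U.1 hwU).2.2
      show (WeilCoh.dim ((piece w.1 U.1 hwU).1 : Scheme.{u}) : ℤ) -
        WeilCoh.dim ((piece η.1 (φ ⁻¹ᵁ U.1) hηU).1 : Scheme.{u}) = 0
      omega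
    have hs := congrArg (fun ψ => ψ.hom z0) (L.cpt_spec M i n (piece η.1 (φ ⁻¹ᵁ U.1) hηU) (piece w.1 U.1 hwU) f hf2
      (by rw [hr]; ring) (by rw [hr]; ring))
    simp only [ModuleCat.hom_comp, LinearMap.comp_apply] at hs
    erw [hs, pushCpt_eq M P w U hwU i n i₁ n₁ h1 h1']
    refine congrArg _ ?_
    have e1 := relCodim_piece η.1 η.2 (φ ⁻¹ᵁ U.1) U''.2.2 hηU
    have e2 := relCodim_piece w.1 w.2 U.1 U.2.2 hwU
    have hq : relCodim ((Y.ptSub η.1).res (piece η.1 (φ ⁻¹ᵁ U.1) hηU).1).scheme (X.res U.1).scheme = (q : ℤ) := by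
      simp only [relCodim] at hr e2 ⊢
      omega
    have hc1 := T.push_comp f (pieceι w.1 U.1 hwU) M i n i n i₁ n₁ (by rw [hr]; ring) (by rw [hr]; ring)
      (by rw [e2]; exact h1) (by rw [e2]; exact h1') (by rw [hq]; exact h1) (by rw [hq]; exact h1')
    have hc2 := T.push_comp (pieceι η.1 (φ ⁻¹ᵁ U.1) hηU) (φ ∣_ U.1) M i n i n i₁ n₁ (by rw [e1]; exact h3)
      (by rw [e1]; exact h3') (by rw [hrU]; exact h1) (by rw [hrU]; exact h1') (by rw [hq]; exact h1)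
      (by rw [hq]; exact h1')
    rw [push_congr T M hf1] at hc1
    exact congrFun (congrArg (fun ψ => ⇑(ModuleCat.Hom.hom ψ)) (hc1.trans hc2.symm)) z0
  rw [hL, hR]
  obtain ⟨Y₀, hs₀⟩ := exists_split (j := q) U
  obtain ⟨Y₀', hs₀'⟩ := exists_split (j := 0) U''
  obtain ⟨Y₂, hY₂, hY₂mem⟩ := exists_open_preimage_le φ hdim (j := 1) Y₀'.2.1
  obtain ⟨Y₁, hY₁₀, hY₁₂, hUY⟩ : ∃ Y₁ : Idx X (ContainsFj X (q + 1)), Y₁.1 ≤ Y₀.1 ∧ Y₁.1 ≤ Y₂.1 ∧ U.1 ≤ Y₁.1 :=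
    ⟨mkIdx X (q + 1) (Y₀.1 ⊓ Y₂.1) (containsFj_inf X Y₀.2.1 Y₂.2.1), inf_le_left, inf_le_right,
      le_inf hs₀.le fun x hx => hY₂mem x fun z hz =>
        hs₀'.le (show φ z ∈ U.1 from hz ▸ hx)⟩
  have hs : IsSplit (q + 1) (outside U.2.1) Y₁.1 U.1 :=
    ⟨hUY, Y₁.2.2, U.2.2, fun x _ => Y₁.2.1 x.1 x.2.le, hs₀.not_mem, fun v hv => hs₀.cover v (hY₁₀ hv),
      fun v hv => hs₀.unique v (hY₁₀ hv)⟩
  let Y₁'' : Idx Y (ContainsFj Y 1) := mkIdx Y 1 (φ ⁻¹ᵁ Y₁.1) (containsFj_preimage φ hdim Y₁.2.1)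
  have hle'' : φ ⁻¹ᵁ Y₁.1 ≤ Y₀'.1 := le_trans (φ.preimage_mono hY₁₂) hY₂
  have hs' : IsSplit (0 + 1) (outside U''.2.1) (φ ⁻¹ᵁ Y₁.1) (φ ⁻¹ᵁ U.1) :=
    ⟨φ.preimage_mono hUY, Y₁''.2.2, U''.2.2, fun y _ => Y₁''.2.1 y.1 y.2.le, hs₀'.not_mem,
      fun v hv => hs₀'.cover v (hle'' hv), fun v hv => hs₀'.unique v (hle'' hv)⟩
  have hts : ∀ y : Y.cdPt (0 + 1), y ∈ outside U''.2.1 → t y ∈ outside U.2.1 := fun y hy => by
    rw [mem_outside] at hy ⊢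
    rw [← (F y).maps_pt]
    exact hy
  rw [resTot_eq_sum M Q U hs i₁ n₁ i₂ n₂ h2 h2' c, resTot_eq_sum M Q' U'' hs' i n i₂ n₂ h4 h4' b, map_sum]
  refine Eq.trans ?_ (Finset.sum_congr rfl fun y _ => (PreTheory.PtPush.famTot_lof t F M i₂ n₂ y.1 _).symm)
  rcases (outside U''.2.1).eq_empty_or_nonempty with he | hne'
  · rw [Finset.sum_eq_zero (s := (outside U''.2.1).attach) fun y _ =>
      absurd (he ▸ y.2 : y.1 ∈ (∅ : Finset (Y.cdPt (0 + 1)))) (Finset.notMem_empty _)]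
    refine Finset.sum_eq_zero fun x _ => (congrArg _ ?_).trans (map_zero _)
    have hYU : φ ⁻¹ᵁ Y₁.1 ≤ φ ⁻¹ᵁ U.1 := fun v hv => by
      by_contra hvU
      obtain ⟨y, hy, -⟩ := hs'.cover v hv hvU
      rw [he] at hy
      exact Finset.notMem_empty _ hy
    haveI : IsProper (φ ∣_ Y₁.1) := IsZariskiLocalAtTarget.restrict (P := @IsProper) inferInstance _
    have hrY : relCodim (Y.res (φ ⁻¹ᵁ Y₁.1)).scheme (X.res Y₁.1).scheme = (q : ℤ) :=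
      relCodim_restrict φ hdim Y₁.1 Y₁.2.2 Y₁''.2.2
    let b1 := (T.pull (Y.resLE hYU (Y₁''.2.2.trans U''.2.2.symm)) M i n).hom b
    have hb1 : (T.pull (Y.resLE (φ.preimage_mono hUY) (U''.2.2.trans Y₁''.2.2.symm)) M i n).hom b1 = b := by
      rw [pull_pull_apply]
      refine Eq.trans (congrArg (fun f => (T.pull f M i n).hom b) ?_) (pull_id T M i n b)
      exact Hom.ext ((Scheme.homOfLE_homOfLE Y.scheme (φ.preimage_mono hUY) hYU).trans (Scheme.homOfLE_rfl _ _))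
    have hpp := congrFun (congrArg (fun ψ => ⇑(ModuleCat.Hom.hom ψ)) (T.push_pull (X := Y.res (φ ⁻¹ᵁ Y₁.1)) (Y := X.res Y₁.1)
      (X' := Y.res (φ ⁻¹ᵁ U.1)) (Y' := X.res U.1) (φ ∣_ Y₁.1) (φ ∣_ U.1)
      (X.resLE hUY (U.2.2.trans Y₁.2.2.symm)) (Y.resLE (φ.preimage_mono hUY) (U''.2.2.trans Y₁''.2.2.symm))
      (isPullback_restrict_le φ hUY) M i n i₁ n₁ (by rw [hrY]; exact h1) (by rw [hrY]; exact h1')
      (by rw [hrU]; exact h1) (by rw [hrU]; exact h1'))) b1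
    simp only [ModuleCat.hom_comp, LinearMap.comp_apply] at hpp
    erw [hb1] at hpp
    show ((T.ptι X x.1.1 i₂ n₂ _).app M).hom ((T.pull (hs.part x.2) M i₂ n₂).hom
      ((T.res hs.decomp M i₁ n₁ i₂ n₂ _ _).hom c)) = 0
    rw [show (T.res hs.decomp M i₁ n₁ i₂ n₂ (hs.idx_res ⟨x.1, x.2⟩ (by push_cast; exact h2) (by push_cast; exact h2')).1
      (hs.idx_res ⟨x.1, x.2⟩ (by push_cast; exact h2) (by push_cast; exact h2')).2).hom c = 0 from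
      (T.exact_pull_res hs.decomp M i₁ n₁ i₂ n₂ _ _ c).mpr ⟨_, hpp⟩, map_zero, map_zero]
  · have hne : (outside U.2.1).Nonempty := let ⟨y, hy⟩ := hne'; ⟨t y, hts y hy⟩
    obtain ⟨hia, hna⟩ := hs'.idx_res hne' (i := i) (n := n) (i' := i₂) (n' := n₂)
      (by push_cast at h4 ⊢; exact h4) (by push_cast at h4' ⊢; exact h4')
    obtain ⟨hiX, hnX⟩ := hs.idx_res hne (i := i₁) (n := n₁) (i' := i₂) (n' := n₂)
      (by push_cast; exact h2) (by push_cast; exact h2')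
    obtain ⟨h, hh, hhι, hh0, hres⟩ := res_push_reduced (T := T) M φ hdim hs hs' hne hne' i n
    haveI := hh
    have hres' := hres i₁ n₁ i₂ n₂ hia hna (by rw [hrU]; exact h1) (by rw [hrU]; exact h1')
      (by rw [hh0]; ring) (by rw [hh0]; ring) hiX hnX b
    let Φ : T.gp hs.decomp.Z M i₂ n₂ →ₗ[R] T.ptSum X (q + 1) M i₂ n₂ :=
      ∑ x ∈ (outside U.2.1).attach, (DirectSum.lof R (X.cdPt (q + 1)) (fun z => T.ptGp X z.1 M i₂ n₂) x.1).comp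
        (((T.ptι X x.1.1 i₂ n₂ (piece x.1.1 Y₁.1 (hs.mem x.1 x.2))).app M).hom.comp
          (T.pull (hs.part x.2) M i₂ n₂).hom)
    have hΦ : ∀ z, Φ z = ∑ x ∈ (outside U.2.1).attach, DirectSum.lof R (X.cdPt (q + 1))
        (fun z => T.ptGp X z.1 M i₂ n₂) x.1 (((T.ptι X x.1.1 i₂ n₂ (piece x.1.1 Y₁.1 (hs.mem x.1 x.2))).app M).hom
          ((T.pull (hs.part x.2) M i₂ n₂).hom z)) := fun z => by
      simp only [Φ, LinearMap.coe_sum, Finset.sum_apply]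
      rfl
    have hΦp : ∀ (x₀ : X.cdPt (q + 1)) (hx₀ : x₀ ∈ outside U.2.1) (u : T.gp ((X.ptSub x₀.1).res
        (piece x₀.1 Y₁.1 (hs.mem x₀ hx₀)).1) M i₂ n₂),
        Φ ((T.push (hs.part hx₀).hom M i₂ n₂ i₂ n₂ (hs.idx_part hx₀ i₂ n₂).1 (hs.idx_part hx₀ i₂ n₂).2).hom u) =
          DirectSum.lof R (X.cdPt (q + 1)) (fun z => T.ptGp X z.1 M i₂ n₂) x₀
            (((T.ptι X x₀.1 i₂ n₂ (piece x₀.1 Y₁.1 (hs.mem x₀ hx₀))).app M).hom u) := fun x₀ hx₀ u => by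
      rw [hΦ, Finset.sum_eq_single ⟨x₀, hx₀⟩]
      · rw [pull_push_self T M (hs.part hx₀) i₂ n₂ _ _ u]
      · intro x _ hxne
        rw [pull_push_disjoint T M (hs.part hx₀) (hs.part x.2)
          (hs.disjoint_part x.2 hx₀ fun e => hxne (Subtype.ext e)) i₂ n₂ _ _ u, map_zero, map_zero]
      · exact fun h => absurd (Finset.mem_attach _ _) h
    refine Eq.trans (b := Φ ((T.res hs.decomp M i₁ n₁ i₂ n₂ hiX hnX).hom c)) (by rw [hΦ]; rfl) ?_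
    rw [show (T.res hs.decomp M i₁ n₁ i₂ n₂ hiX hnX).hom c = _ from hres',
      hs'.eq_sum_part T M hne' i₂ n₂ ((T.res hs'.decomp M i n i₂ n₂ hia hna).hom b), map_sum, map_sum]
    refine Finset.sum_congr rfl fun y _ => ?_
    obtain ⟨g, hg, hg1, hg2⟩ := exists_piece_map φ Y₁.1 y.1.1 (F y.1).maps_pt (hs'.mem y.1 y.2)
      (hs.mem (t y.1) (hts y.1 y.2))
    haveI := hg
    have hgp : (hs'.part y.2).hom ≫ h = g ≫ (hs.part (hts y.1 y.2)).hom := by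
      refine (cancel_mono (diffι Y₁.1 U.1)).mp ?_
      refine (Category.assoc _ _ _).trans ((congrArg ((hs'.part y.2).hom ≫ ·) hhι).trans ?_)
      refine (Category.assoc _ _ _).symm.trans ((congrArg (· ≫ (φ ∣_ Y₁.1)) (hs'.part_fac y.2)).trans ?_)
      refine hg1.symm.trans ((congrArg (g ≫ ·) (hs.part_fac (hts y.1 y.2)).symm).trans ?_)
      exact (Category.assoc _ _ _).symm
    have hr : relCodim ((Y.ptSub y.1.1).res (piece y.1.1 (φ ⁻¹ᵁ Y₁.1) (hs'.mem y.1 y.2)).1).scheme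
        ((X.ptSub (t y.1).1).res (piece (t y.1).1 Y₁.1 (hs.mem (t y.1) (hts y.1 y.2))).1).scheme = 0 := by
      have e1 := (piece y.1.1 (φ ⁻¹ᵁ Y₁.1) (hs'.mem y.1 y.2)).2.2
      have e2 := (piece (t y.1).1 Y₁.1 (hs.mem (t y.1) (hts y.1 y.2))).2.2
      have e3 := dim_eq_of_ptPush (F y.1)
      show (WeilCoh.dim ((piece (t y.1).1 Y₁.1 (hs.mem (t y.1) (hts y.1 y.2))).1 : Scheme.{u}) : ℤ) -
        WeilCoh.dim ((piece y.1.1 (φ ⁻¹ᵁ Y₁.1) (hs'.mem y.1 y.2)).1 : Scheme.{u}) = 0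
      omega
    have hrz : relCodim ((Y.ptSub y.1.1).res (piece y.1.1 (φ ⁻¹ᵁ Y₁.1) (hs'.mem y.1 y.2)).1).scheme
        hs.decomp.Z.scheme = 0 := by
      have e1 := relCodim_hom (hs'.part y.2)
      simp only [relCodim] at e1 hh0 ⊢
      omega
    have hc1 := T.push_comp (hs'.part y.2).hom h M i₂ n₂ i₂ n₂ i₂ n₂ (hs'.idx_part y.2 i₂ n₂).1
      (hs'.idx_part y.2 i₂ n₂).2 (by rw [hh0]; ring) (by rw [hh0]; ring) (by rw [hrz]; ring) (by rw [hrz]; ring)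
    have hc2 := T.push_comp g (hs.part (hts y.1 y.2)).hom M i₂ n₂ i₂ n₂ i₂ n₂ (by rw [hr]; ring)
      (by rw [hr]; ring) (hs.idx_part (hts y.1 y.2) i₂ n₂).1 (hs.idx_part (hts y.1 y.2) i₂ n₂).2
      (by rw [hrz]; ring) (by rw [hrz]; ring)
    rw [push_congr T M hgp] at hc1
    have hcomm := congrFun (congrArg (fun ψ => ⇑(ModuleCat.Hom.hom ψ)) (hc1.trans hc2.symm))
      ((T.pull (hs'.part y.2) M i₂ n₂).hom ((T.res hs'.decomp M i n i₂ n₂ hia hna).hom b))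
    simp only [ModuleCat.hom_comp, LinearMap.comp_apply] at hcomm
    erw [hcomm, hΦp]
    refine congrArg _ ?_
    exact (congrFun (congrArg (fun ψ => ⇑(ModuleCat.Hom.hom ψ)) ((F y.1).cpt_spec M i₂ n₂
      (piece y.1.1 (φ ⁻¹ᵁ Y₁.1) (hs'.mem y.1 y.2)) (piece (t y.1).1 Y₁.1 (hs.mem (t y.1) (hts y.1 y.2)))
      g hg2 (by rw [hr]; ring) (by rw [hr]; ring)))
      ((T.pull (hs'.part y.2) M i₂ n₂).hom ((T.res hs'.decomp M i n i₂ n₂ hia hna).hom b))).symm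

end

end Groth.Agent.BMCohLib
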