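import Mathlib.Topology.KrullDimension
import Mathlib.Topology.Sober
import Groth.Prelude.Def_WeilCoh

/-!
# Dimensions of closures of points as natural numbers
-/

set_option autoImplicit false

universe u v

open Order TopologicalSpace Topology

namespace Groth.Agent.BMCohLib

open WeilCoh (natDim)

variable {T : Type u} [TopologicalSpace T] {S : Type u} [TopologicalSpace S]

theorem natDim_mono_of_isInducing {f : S → T} (hf : IsInducing f) (hT : topologicalKrullDim T < ⊤) :
    natDim S ≤ natDim T := by
  have h := hf.topologicalKrullDim_le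
  unfold WeilCoh.natDim
  generalize topologicalKrullDim S = s at h
  generalize topologicalKrullDim T = t at h hT
  induction s with
  | bot => simp
  | coe s =>
    induction t with
    | bot => simp at h
    | coe t =>
      simp only [WithBot.unbotD_coe]
      exact ENat.toNat_le_toNat (WithBot.coe_le_coe.mp h) fun e => by subst e; exact lt_irrefl _ hT

theorem natDim_congr {f : S → T} (hf : IsHomeomorph f) : natDim S = natDim T := by
  unfold WeilCoh.natDim
  rw [hf.topologicalKrullDim_eq]

theorem natDim_of_isEmpty [IsEmpty T] : natDim T = 0 := by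
  unfold WeilCoh.natDim
  have : IsEmpty (IrreducibleCloseds T) := ⟨fun Z => isEmptyElim Z.isIrreducible.nonempty.some⟩
  rw [show topologicalKrullDim T = ⊥ from Order.krullDim_eq_bot]
  rfl

/-- The closure of a point as an irreducible closed set. -/
def pt (x : T) : IrreducibleCloseds T where
  carrier := closure {x}
  isIrreducible' := isIrreducible_singleton.closure
  isClosed' := isClosed_closure

@[simp] theorem coe_pt (x : T) : (pt x : Set T) = closure {x} := rfl

theorem pt_le_pt {x y : T} : pt x ≤ pt y ↔ y ⤳ x :=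
  ⟨fun h => specializes_iff_mem_closure.mpr (h (subset_closure rfl)),
    fun h => h.closure_subset⟩

theorem exists_pt_eq [QuasiSober T] (Z : IrreducibleCloseds T) : ∃ x, pt x = Z :=
  ⟨Z.isIrreducible.genericPoint, IrreducibleCloseds.ext ((IsIrreducible.isGenericPoint_genericPoint Z.isIrreducible Z.isClosed).def)⟩

/-- Irreducible closed subsets of a closed irreducible subset. -/
noncomputable def orderIsoIic (Z : IrreducibleCloseds T) :
    IrreducibleCloseds (Z : Set T) ≃o Set.Iic Z where
  toFun W := ⟨⟨Subtype.val '' (W : Set (Z : Set T)), W.isIrreducible.image _ continuous_subtype_val.continuousOn,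
    Z.isClosed.isClosedEmbedding_subtypeVal.isClosedMap _ W.isClosed⟩,
    Subtype.coe_image_subset _ _⟩
  invFun W :=
    { carrier := Subtype.val ⁻¹' (W.1 : Set T)
      isIrreducible' := by
        refine ⟨?_, ?_⟩
        · obtain ⟨w, hw⟩ := W.1.isIrreducible.nonempty
          exact ⟨⟨w, W.2 hw⟩, hw⟩
        · intro u v hu hv hWu hWv
          obtain ⟨u', hu', rfl⟩ := isOpen_induced_iff.mp hu
          obtain ⟨v', hv', rfl⟩ := isOpen_induced_iff.mp hv
          obtain ⟨⟨a, ha⟩, ha1, ha2⟩ := hWu
          obtain ⟨⟨b, hb⟩, hb1, hb2⟩ := hWv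
          obtain ⟨c, hc1, hc2, hc3⟩ := W.1.isIrreducible.isPreirreducible u' v' hu' hv' ⟨a, ha1, ha2⟩ ⟨b, hb1, hb2⟩
          exact ⟨⟨c, W.2 hc1⟩, hc1, hc2, hc3⟩
      isClosed' := W.1.isClosed.preimage continuous_subtype_val }
  left_inv W := IrreducibleCloseds.ext (Subtype.val_injective.preimage_image _)
  right_inv W := Subtype.ext (IrreducibleCloseds.ext (by
    show Subtype.val '' (Subtype.val ⁻¹' (W.1 : Set T)) = _
    rw [Set.image_preimage_eq_inter_range, Subtype.range_coe]
    exact Set.inter_eq_left.mpr W.2))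
  map_rel_iff' {a b} := by
    show Subtype.val '' (a : Set (Z : Set T)) ⊆ Subtype.val '' (b : Set (Z : Set T)) ↔ _
    rw [Set.image_subset_image_iff Subtype.val_injective]
    rfl

theorem natDim_closure (x : T) : natDim (closure ({x} : Set T)) = (height (pt x)).toNat := by
  unfold WeilCoh.natDim
  show ((krullDim (IrreducibleCloseds (pt x : Set T))).unbotD 0).toNat = _
  rw [krullDim_eq_of_orderIso (orderIsoIic (pt x)), ← height_eq_krullDim_Iic]
  rfl

theorem height_ne_top (hT : topologicalKrullDim T < ⊤) (Z : IrreducibleCloseds T) : height Z ≠ ⊤ := fun h => by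
  have := (height_le_krullDim Z).trans_lt hT
  rw [h] at this
  exact lt_irrefl _ this

theorem natDim_closure_le (hT : topologicalKrullDim T < ⊤) (x : T) :
    natDim (closure ({x} : Set T)) ≤ natDim T :=
  natDim_mono_of_isInducing IsInducing.subtypeVal hT

theorem natDim_closure_lt (hT : topologicalKrullDim T < ⊤) [T0Space T] {x y : T} (h : x ⤳ y)
    (hne : x ≠ y) : natDim (closure ({y} : Set T)) < natDim (closure ({x} : Set T)) := by
  rw [natDim_closure, natDim_closure]
  have hlt : pt y < pt x := lt_of_le_not_ge (pt_le_pt.mpr h)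
    fun h' => hne (h.antisymm (pt_le_pt.mp h')).eq
  have h1 := height_strictMono hlt (height_ne_top hT _).lt_top
  obtain ⟨a, ha⟩ := ENat.ne_top_iff_exists.mp (height_ne_top hT (pt y))
  obtain ⟨b, hb⟩ := ENat.ne_top_iff_exists.mp (height_ne_top hT (pt x))
  rw [← ha, ← hb] at h1 ⊢
  simpa using h1

theorem exists_natDim_closure_eq [QuasiSober T] (hT : topologicalKrullDim T < ⊤) [Nonempty T] {k : ℕ}
    (hk : k ≤ natDim T) : ∃ x : T, natDim (closure ({x} : Set T)) = k := by
  haveI : Nonempty (IrreducibleCloseds T) := ⟨pt (Classical.arbitrary T)⟩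
  have hd : krullDim (IrreducibleCloseds T) = ↑(⨆ a : IrreducibleCloseds T, height a) :=
    krullDim_eq_iSup_height_of_nonempty
  obtain ⟨Z, hZ⟩ : ∃ Z : IrreducibleCloseds T, (k : ℕ∞) ≤ height Z := by
    by_contra hne
    push Not at hne
    rcases Nat.eq_zero_or_pos k with rfl | hpos
    · exact absurd (hne (pt (Classical.arbitrary T))) (by simp)
    have hsup : (⨆ a : IrreducibleCloseds T, height a) ≤ ((k - 1 : ℕ) : ℕ∞) := iSup_le fun a => by
      obtain ⟨m, hm⟩ := ENat.ne_top_iff_exists.mp (height_ne_top hT a)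
      have := hne a
      rw [← hm] at this ⊢
      norm_cast at this ⊢
      omega
    have : natDim T ≤ k - 1 := by
      unfold WeilCoh.natDim
      rw [show topologicalKrullDim T = _ from hd]
      exact ENat.toNat_le_of_le_natCast hsup
    omega
  rcases hZ.eq_or_lt with h | h
  · obtain ⟨x, hx⟩ := exists_pt_eq Z
    exact ⟨x, by rw [natDim_closure, hx, ← h]; rfl⟩
  · obtain ⟨W, -, hW⟩ := (coe_lt_height_iff (height_ne_top hT Z).lt_top).mp h
    obtain ⟨x, hx⟩ := exists_pt_eq W
    exact ⟨x, by rw [natDim_closure, hx, hW]; rfl⟩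

end Groth.Agent.BMCohLib
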