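import Groth.Agent.BMCohLib.Pieces

/-!
# Pieces of closures of points inside opens, and adding one point to an open
-/

set_option autoImplicit false
set_option linter.style.haveILetI false
set_option backward.isDefEq.respectTransparency false
set_option backward.defeqAttrib.useBackward true

universe u

open AlgebraicGeometry CategoryTheory CategoryTheory.Limits Opposite BMCoh TopologicalSpace Topology

namespace Groth.Agent.BMCohLib

variable {V : ObjectProperty Scheme.{u}} [IsConstructible V] {R : Type u} [CommRing R] {A : Coefs R}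
  (T : PreTheory V R A) {X : Obj V} {j : ℕ} (M : A.Cat)

theorem mem_ptSubι_range {x y : X.scheme} : y ∈ Set.range (X.ptSubι x) ↔ x ⤳ y := by
  rw [range_ptSubι, specializes_iff_mem_closure]

theorem ptSubι_specializes (x : X.scheme) (w : (X.ptSub x).scheme) : x ⤳ X.ptSubι x w :=
  mem_ptSubι_range.mp ⟨w, rfl⟩

/-- The complement of the image of what lies outside an open of a closure. -/
def exOpen (x : X.scheme) (W : (X.ptSub x).scheme.Opens) : X.scheme.Opens :=
  ⟨(X.ptSubι x '' (W : Set (X.ptSub x).scheme)ᶜ)ᶜ,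
    ((X.ptSubι x).isClosedMap _ W.2.isClosed_compl).isOpen_compl⟩

theorem preimage_exOpen (x : X.scheme) (W : (X.ptSub x).scheme.Opens) :
    X.ptSubι x ⁻¹ᵁ exOpen x W = W := by
  ext w
  show X.ptSubι x w ∈ (X.ptSubι x '' (W : Set (X.ptSub x).scheme)ᶜ)ᶜ ↔ w ∈ W
  rw [Set.mem_compl_iff, (X.ptSubι x).isEmbedding.injective.mem_set_image, Set.mem_compl_iff, not_not]
  rfl

theorem mem_exOpen_of_not_specializes {x y : X.scheme} (W : (X.ptSub x).scheme.Opens) (h : ¬x ⤳ y) :
    y ∈ exOpen x W := fun ⟨w, _, hw⟩ => h (hw ▸ ptSubι_specializes x w)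

theorem mem_exOpen_self {x : X.scheme} (W : (X.ptSub x).scheme.Opens)
    (h : (W : Set (X.ptSub x).scheme).Nonempty) : x ∈ exOpen x W := by
  rintro ⟨w, hw, hx⟩
  exact hw ((X.ptSubι x).isEmbedding.injective (hx.trans (ptSubι_gen X x).symm) ▸ gen_mem X x W h)

theorem containsFj_exOpen {x : X.scheme} (hx : j ≤ WeilCoh.codim X.scheme x)
    (W : (X.ptSub x).scheme.Opens) (h : (W : Set (X.ptSub x).scheme).Nonempty) :
    ContainsFj X j (exOpen x W) := fun y hy => by
  rcases eq_or_ne x y with rfl | hne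
  · exact mem_exOpen_self W h
  · exact mem_exOpen_of_not_specializes W fun hs => by
      have := codim_lt X hs hne
      omega

/-- The piece of the closure of a point lying in an open that contains it. -/
noncomputable def piece (x : X.scheme) (U : X.scheme.Opens) (hx : x ∈ U) : ptIdx X x :=
  mkPtIdx X x (X.ptSubι x ⁻¹ᵁ U) (preimage_nonempty X hx)

theorem piece_inf_exOpen_le (x : X.scheme) (U : X.scheme.Opens) (hx : x ∈ U) (W : ptIdx X x)
    (h : W.1 ≤ (piece x U hx).1) :
    piece x (U ⊓ exOpen x W.1) ⟨hx, mem_exOpen_self _ W.2.1⟩ = W := by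
  refine Subtype.ext ?_
  show X.ptSubι x ⁻¹ᵁ U ⊓ X.ptSubι x ⁻¹ᵁ exOpen x W.1 = W.1
  rw [preimage_exOpen]
  exact inf_eq_right.mpr h

theorem exists_piece_eq {x : X.scheme} (hx : j ≤ WeilCoh.codim X.scheme x) (W : ptIdx X x) :
    ∃ (U : Idx X (ContainsFj X j)) (h : x ∈ U.1), piece x U.1 h = W :=
  ⟨mkIdx X j _ (containsFj_exOpen hx W.1 W.2.1), mem_exOpen_self _ W.2.1,
    Subtype.ext (preimage_exOpen x W.1)⟩

/-- The closed immersion of a piece into its open. -/
noncomputable def pieceι (x : X.scheme) (U : X.scheme.Opens) (hx : x ∈ U) :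
    ((X.ptSub x).res (piece x U hx).1).scheme ⟶ (X.res U).scheme :=
  X.ptSubι x ∣_ U

theorem pieceι_ι (x : X.scheme) (U : X.scheme.Opens) (hx : x ∈ U) :
    pieceι x U hx ≫ U.ι = (piece x U hx).1.ι ≫ X.ptSubι x :=
  morphismRestrict_ι _ _

instance isClosedImmersion_pieceι (x : X.scheme) (U : X.scheme.Opens) (hx : x ∈ U) :
    IsClosedImmersion (pieceι x U hx) :=
  inferInstanceAs (IsClosedImmersion (X.ptSubι x ∣_ U))

theorem range_pieceι (x : X.scheme) (U : X.scheme.Opens) (hx : x ∈ U) :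
    Set.range (pieceι x U hx) = U.ι ⁻¹' {y | x ⤳ y} := by
  ext y
  constructor
  · rintro ⟨w, rfl⟩
    show x ⤳ U.ι (pieceι x U hx w)
    rw [← Scheme.Hom.comp_apply, pieceι_ι, Scheme.Hom.comp_apply]
    exact ptSubι_specializes x _
  · intro hy
    obtain ⟨w, hw⟩ := mem_ptSubι_range.mpr (show x ⤳ U.ι y from hy)
    refine ⟨⟨w, show X.ptSubι x w ∈ U from hw ▸ y.2⟩, U.ι.isEmbedding.injective ?_⟩
    rw [← Scheme.Hom.comp_apply, pieceι_ι, Scheme.Hom.comp_apply]
    exact hw

theorem relCodim_piece {c : ℕ} (x : X.scheme) (hc : WeilCoh.codim X.scheme x = c)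
    (U : X.scheme.Opens) (hd : WeilCoh.dim (U : Scheme.{u}) = WeilCoh.dim X.scheme) (hx : x ∈ U) :
    relCodim ((X.ptSub x).res (piece x U hx).1).scheme (X.res U).scheme = (c : ℤ) := by
  have h1 := (piece x U hx).2.2.trans (dim_ptSub X x)
  have h2 := pdim_add_codim X x
  show (WeilCoh.dim (U : Scheme.{u}) : ℤ) - (WeilCoh.dim ((piece x U hx).1 : Scheme.{u}) : ℤ) = c
  omega

/-- The comparison of the pieces in nested opens. -/
noncomputable abbrev pieceLE (x : X.scheme) {U U' : X.scheme.Opens} (h : U ≤ U') (hx : x ∈ U) :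
    (X.ptSub x).res (piece x U hx).1 ⟶ (X.ptSub x).res (piece x U' (h hx)).1 :=
  (X.ptSub x).resLE ((X.ptSubι x).preimage_mono h) ((piece x U hx).2.2.trans (piece x U' (h hx)).2.2.symm)

theorem isPullback_pieceLE (x : X.scheme) {U U' : X.scheme.Opens} (h : U ≤ U')
    (hd : WeilCoh.dim (U : Scheme.{u}) = WeilCoh.dim (U' : Scheme.{u})) (hx : x ∈ U) :
    IsPullback (pieceLE x h hx).hom (pieceι x U hx) (pieceι x U' (h hx)) (X.resLE h hd).hom := by
  refine IsPullback.of_right ?_ ?_ (isPullback_morphismRestrict (X.ptSubι x) U').flip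
  · show IsPullback ((X.ptSub x).scheme.homOfLE ((X.ptSubι x).preimage_mono h) ≫ (piece x U' (h hx)).1.ι) (X.ptSubι x ∣_ U) (X.ptSubι x)
      (X.scheme.homOfLE h ≫ U'.ι)
    rw [Scheme.homOfLE_ι]
    erw [Scheme.homOfLE_ι]
    exact (isPullback_morphismRestrict (X.ptSubι x) U).flip
  · rw [← cancel_mono U'.ι, Category.assoc, Category.assoc]
    show (X.ptSub x).scheme.homOfLE ((X.ptSubι x).preimage_mono h) ≫ pieceι x U' (h hx) ≫ U'.ι = pieceι x U hx ≫ X.scheme.homOfLE h ≫ U'.ι
    rw [pieceι_ι, Scheme.homOfLE_ι, pieceι_ι, ← Category.assoc]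
    erw [Scheme.homOfLE_ι]
    rfl

/-- Push-forward from a piece commutes with shrinking the open. -/
theorem pull_push_piece {c : ℕ} (x : X.scheme) (hc : WeilCoh.codim X.scheme x = c)
    {U U' : X.scheme.Opens} (h : U ≤ U')
    (hd : WeilCoh.dim (U : Scheme.{u}) = WeilCoh.dim X.scheme)
    (hd' : WeilCoh.dim (U' : Scheme.{u}) = WeilCoh.dim X.scheme) (hx : x ∈ U) (i n i' n' : ℤ)
    (hi : i' = i + 2 * (c : ℤ)) (hn : n' = n + (c : ℤ)) (z : T.gp ((X.ptSub x).res (piece x U' (h hx)).1) M i n) :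
    (T.pull (X.resLE h (hd.trans hd'.symm)) M i' n').hom
        ((T.push (pieceι x U' (h hx)) M i n i' n' (by rw [relCodim_piece x hc U' hd' (h hx)]; exact hi)
          (by rw [relCodim_piece x hc U' hd' (h hx)]; exact hn)).hom z) =
      (T.push (pieceι x U hx) M i n i' n' (by rw [relCodim_piece x hc U hd hx]; exact hi)
        (by rw [relCodim_piece x hc U hd hx]; exact hn)).hom ((T.pull (pieceLE x h hx) M i n).hom z) :=
  congrArg (fun φ => φ.hom z) (T.push_pull _ _ _ _ (isPullback_pieceLE x h (hd.trans hd'.symm) hx)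
    M i n i' n' _ _ _ _)

/-- The push-forward of a class on a piece into the groups of loci of bounded codimension. -/
noncomputable abbrev pushPiece (c : ℕ) (x : X.scheme) (hc : WeilCoh.codim X.scheme x = c)
    (U : Idx X (ContainsFj X j)) (hx : x ∈ U.1) (i n i' n' : ℤ) (hi : i' = i + 2 * (c : ℤ))
    (hn : n' = n + (c : ℤ)) : T.gp ((X.ptSub x).res (piece x U.1 hx).1) M i n ⟶ T.gp (X.res U.1) M i' n' :=
  T.push (pieceι x U.1 hx) M i n i' n' (by rw [relCodim_piece x hc U.1 U.2.2 hx]; exact hi)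
    (by rw [relCodim_piece x hc U.1 U.2.2 hx]; exact hn)

/-- A class on a piece that dies at the point pushes forward to zero. -/
theorem fjι_pushPiece_eq_zero (c : ℕ) (x : X.scheme) (hc : WeilCoh.codim X.scheme x = c) (hcj : j ≤ c)
    (U : Idx X (ContainsFj X j)) (hx : x ∈ U.1) (i n i' n' : ℤ) (hi : i' = i + 2 * (c : ℤ))
    (hn : n' = n + (c : ℤ)) (z : T.gp ((X.ptSub x).res (piece x U.1 hx).1) M i n)
    (hz : ((T.ptι X x i n (piece x U.1 hx)).app M).hom z = 0) :
    ((T.fjι X j i' n' U).app M).hom ((pushPiece T M c x hc U hx i n i' n' hi hn).hom z) = 0 := by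
  obtain ⟨W, hW, hz'⟩ := exists_zero T (X.ptSub x) _ M i n hz
  let U₂ := mkIdx X j (U.1 ⊓ exOpen x W.1)
    (containsFj_inf X U.2.1 (containsFj_exOpen (hc ▸ hcj) W.1 W.2.1))
  have hx₂ : x ∈ U₂.1 := ⟨hx, mem_exOpen_self _ W.2.1⟩
  rw [← ι_resI_apply T X _ M i' n' (U := U₂) (U' := U) inf_le_left,
    show (resI T X _ M i' n' (U := U₂) (U' := U) inf_le_left).hom
      ((pushPiece T M c x hc U hx i n i' n' hi hn).hom z) = _ from
      pull_push_piece T M x hc (inf_le_left : U₂.1 ≤ U.1) U₂.2.2 U.2.2 hx₂ i n i' n' hi hn z]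
  suffices (T.pull (pieceLE x (inf_le_left : U₂.1 ≤ U.1) hx₂) M i n).hom z = 0 by rw [this, map_zero, map_zero]
  have key : ∀ (W' : ptIdx X x) (h : W'.1 ≤ (piece x U.1 hx).1), W' = W →
      (resI T (X.ptSub x) _ M i n h).hom z = 0 := fun W' h e => by subst e; exact hz'
  exact key _ _ (piece_inf_exOpen_le x U.1 hx W hW)

end Groth.Agent.BMCohLib
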