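import Groth.Agent.BMCohLib.Objects
import Mathlib.Algebra.Category.ModuleCat.FilteredColimits
import Mathlib.CategoryTheory.Limits.ConcreteCategory.Basic
import Mathlib.CategoryTheory.Filtered.Basic

/-!
# The groups of points and of loci of bounded codimension, on representatives
-/

set_option autoImplicit false
set_option linter.style.haveILetI false
set_option backward.isDefEq.respectTransparency false
set_option backward.defeqAttrib.useBackward true

universe u

open AlgebraicGeometry CategoryTheory CategoryTheory.Limits Opposite BMCoh TopologicalSpace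

namespace Groth.Agent.BMCohLib

variable {V : ObjectProperty Scheme.{u}} [IsConstructible V] {R : Type u} [CommRing R] {A : Coefs R}
  (T : PreTheory V R A) (X : Obj V)

theorem containsFj_inf {j : ℕ} {U U' : X.scheme.Opens} (h : ContainsFj X j U) (h' : ContainsFj X j U') :
    ContainsFj X j (U ⊓ U') := fun y hy => ⟨h y hy, h' y hy⟩

instance isCofiltered_fjIdx (j : ℕ) : IsCofiltered (Idx X (ContainsFj X j)) := by
  haveI : IsCodirectedOrder (Idx X (ContainsFj X j)) := ⟨fun U U' =>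
    ⟨mkIdx X j (U.1 ⊓ U'.1) (containsFj_inf X U.2.1 U'.2.1), inf_le_left (a := U.1), inf_le_right (b := U'.1)⟩⟩
  haveI : Nonempty (Idx X (ContainsFj X j)) := ⟨mkIdx X j ⊤ fun _ _ => trivial⟩
  exact isCofiltered_of_directed_ge_nonempty _

instance isCofiltered_ptIdx (x : X.scheme) : IsCofiltered (ptIdx X x) := by
  haveI : IsCodirectedOrder (ptIdx X x) := ⟨fun W W' =>
    ⟨mkPtIdx X x (W.1 ⊓ W'.1) ⟨gen X x, gen_mem X x W.1 W.2.1, gen_mem X x W'.1 W'.2.1⟩,
      inf_le_left (a := W.1), inf_le_right (b := W'.1)⟩⟩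
  haveI : Nonempty (ptIdx X x) := ⟨mkPtIdx X x ⊤ ⟨gen X x, trivial⟩⟩
  exact isCofiltered_of_directed_ge_nonempty _

variable (P : X.scheme.Opens → Prop) (M : A.Cat) (i n : ℤ)

/-- Evaluation of an open-system colimit is a colimit. -/
noncomputable def isColimitEval :
    IsColimit (((evaluation A.Cat (ModuleCat.{u} R)).obj M).mapCocone
      (colimit.cocone ((idxDiag X P).op ⋙ T.H i n))) :=
  isColimitOfPreserves _ (colimit.isColimit _)

/-- Restriction along nested members of an index family. -/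
noncomputable abbrev resI {U U' : Idx X P} (h : U.1 ≤ U'.1) :
    T.gp (X.res U'.1) M i n ⟶ T.gp (X.res U.1) M i n :=
  T.pull (X.resLE h (U.2.2.trans U'.2.2.symm)) M i n

theorem ι_resI {U U' : Idx X P} (h : U.1 ≤ U'.1) :
    resI T X P M i n h ≫ (T.ocolimι X P i n U).app M = (T.ocolimι X P i n U').app M := by
  rw [← NatTrans.comp_app]
  congr 1
  exact colimit.w ((idxDiag X P).op ⋙ T.H i n) (homOfLE (show U ≤ U' from h)).op

theorem ι_resI_apply {U U' : Idx X P} (h : U.1 ≤ U'.1) (a : T.gp (X.res U'.1) M i n) :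
    ((T.ocolimι X P i n U).app M).hom ((resI T X P M i n h).hom a) =
      ((T.ocolimι X P i n U').app M).hom a := by
  rw [← ι_resI T X P M i n h]
  rfl

variable [IsCofiltered (Idx X P)]

theorem exists_rep (a : (T.ocolim X P i n).obj M) :
    ∃ (U : Idx X P) (b : T.gp (X.res U.1) M i n), ((T.ocolimι X P i n U).app M).hom b = a := by
  obtain ⟨⟨U⟩, b, hb⟩ := Concrete.isColimit_exists_rep _ (isColimitEval T X P M i n) a
  exact ⟨U, b, hb⟩

theorem exists_zero {U : Idx X P} {a : T.gp (X.res U.1) M i n}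
    (h : ((T.ocolimι X P i n U).app M).hom a = 0) :
    ∃ (U' : Idx X P) (hle : U'.1 ≤ U.1), (resI T X P M i n hle).hom a = 0 := by
  obtain ⟨⟨U'⟩, f, g, hfg⟩ := (Concrete.isColimit_rep_eq_iff_exists _ (isColimitEval T X P M i n)
    (i := op U) (j := op U) a (0 : T.gp (X.res U.1) M i n)).mp (h.trans (map_zero _).symm)
  exact ⟨U', (leOfHom f.unop : U' ≤ U), hfg.trans (map_zero _)⟩

omit [IsCofiltered (Idx X P)] in
theorem ocolimMap_ι {Q : X.scheme.Opens → Prop} (h : ∀ U, P U → Q U) (U : Idx X P) :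
    (T.ocolimι X P i n U).app M ≫ (T.ocolimMap X h i n).app M =
      (T.ocolimι X Q i n ⟨U.1, h _ U.2.1, U.2.2⟩).app M := by
  rw [← NatTrans.comp_app]
  congr 1
  exact colimit.ι_pre ((idxDiag X Q).op ⋙ T.H i n) (idxIncl X h).op (op U)

omit [IsCofiltered (Idx X P)] in
theorem ocolimMap_ι_apply {Q : X.scheme.Opens → Prop} (h : ∀ U, P U → Q U) (U : Idx X P)
    (a : T.gp (X.res U.1) M i n) :
    ((T.ocolimMap X h i n).app M).hom (((T.ocolimι X P i n U).app M).hom a) =
      ((T.ocolimι X Q i n ⟨U.1, h _ U.2.1, U.2.2⟩).app M).hom a := by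
  rw [← ocolimMap_ι T X P M i n h U]
  rfl

omit [IsCofiltered (Idx X P)] in
theorem pull_pull {Y₁ Y₂ Y₃ : Obj V} (f : Y₁ ⟶ Y₂) (g : Y₂ ⟶ Y₃) :
    T.pull g M i n ≫ T.pull f M i n = T.pull (f ≫ g) M i n := by
  rw [PreTheory.pull, PreTheory.pull, PreTheory.pull, ← NatTrans.comp_app, ← Functor.map_comp]
  rfl

omit [IsCofiltered (Idx X P)] in
theorem pull_pull_apply {Y₁ Y₂ Y₃ : Obj V} (f : Y₁ ⟶ Y₂) (g : Y₂ ⟶ Y₃) (a : T.gp Y₃ M i n) :
    (T.pull f M i n).hom ((T.pull g M i n).hom a) = (T.pull (f ≫ g) M i n).hom a := by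
  rw [← pull_pull T M i n f g]
  rfl

omit [IsCofiltered (Idx X P)] in
theorem pull_id {Y : Obj V} (a : T.gp Y M i n) : (T.pull (𝟙 Y) M i n).hom a = a := by
  simp [PreTheory.pull]

end Groth.Agent.BMCohLib
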