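import Groth.Agent.BMCohLib.Sequence

/-!
# The long exact sequence of the loci of bounded codimension
-/

set_option autoImplicit false
set_option linter.style.haveILetI false
set_option backward.isDefEq.respectTransparency false
set_option backward.defeqAttrib.useBackward true

universe u

open AlgebraicGeometry CategoryTheory CategoryTheory.Limits Opposite BMCoh TopologicalSpace Topology
open DirectSum

namespace Groth.Agent.BMCohLib

variable {V : ObjectProperty Scheme.{u}} [IsConstructible V] {R : Type u} [CommRing R] {A : Coefs R}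
  {T : PreTheory V R A} {X : Obj V} {j : ℕ} (M : A.Cat)

theorem subsingleton_pushData : Subsingleton (T.PushData X j) := by
  refine ⟨fun P Q => ?_⟩
  suffices h : P.cpt = Q.cpt by cases P; cases Q; cases h; rfl
  funext x N i n i' n' hi hn
  ext a
  obtain ⟨W, b, rfl⟩ := exists_rep T (X.ptSub x.1) _ N i n a
  obtain ⟨U, hx, rfl⟩ := exists_piece_eq (j := j) x.2.ge W
  exact (pushCpt_eq N P x U hx i n i' n' hi hn b).trans (pushCpt_eq N Q x U hx i n i' n' hi hn b).symm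

theorem subsingleton_resData : Subsingleton (T.ResData X j) := by
  refine ⟨fun P Q => ?_⟩
  suffices h : P.cpt = Q.cpt by cases P; cases Q; cases h; rfl
  funext x N i n i' n' hi hn
  ext a
  obtain ⟨U, b, rfl⟩ := exists_rep T X _ N i n a
  by_cases hx : x.1 ∈ U.1
  · exact (resCpt_of_mem N P U x hx i n i' n' hi hn b).trans (resCpt_of_mem N Q U x hx i n i' n' hi hn b).symm
  · obtain ⟨Y, hs⟩ := exists_split U
    have hm : x ∈ outside U.2.1 := (mem_outside U.2.1).mpr hx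
    exact (resCpt_eq N P U hs hm i n i' n' hi hn b).trans (resCpt_eq N Q U hs hm i n i' n' hi hn b).symm

theorem resTot_eq_zero_iff (Q : T.ResData X j) (i n i' n' : ℤ) (hi : i' = i + 1 - 2 * ((j : ℤ) + 1))
    (hn : n' = n - ((j : ℤ) + 1)) (a : T.fjGp X j M i n) :
    (Q.tot M i n i' n' hi hn).hom a = 0 ↔ ∀ x, (Q.cpt x M i n i' n' hi hn).hom a = 0 :=
  ⟨fun h x => by rw [← PreTheory.ResData.tot_apply, h]; rfl,
    fun h => DFinsupp.ext fun x => (Q.tot_apply M i n i' n' hi hn a x).trans (h x)⟩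

/-- Exactness at the middle locus. -/
theorem exact_fjRes_resTot (Q : T.ResData X j) (i n i' n' : ℤ) (hi : i' = i + 1 - 2 * ((j : ℤ) + 1))
    (hn : n' = n - ((j : ℤ) + 1)) :
    Function.Exact ((T.fjRes X (Nat.le_succ j) i n).app M).hom (Q.tot M i n i' n' hi hn).hom := by
  intro a
  rw [resTot_eq_zero_iff]
  constructor
  · intro h
    exact mem_range_fjRes T M i n i' n' (by push_cast; exact hi) (by push_cast; exact hn) a
      fun U Y b hb hs x hx => by rw [← resCpt_eq M Q U hs hx i n i' n' hi hn b, hb]; exact h x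
  · rintro ⟨c, rfl⟩ x
    obtain ⟨Y, y, rfl⟩ := exists_rep T X _ M i n c
    rw [ocolimMap_ι_apply]
    exact resCpt_of_mem M Q ⟨Y.1, containsFj_mono X (Nat.le_succ j) _ Y.2.1, Y.2.2⟩ x (Y.2.1 x.1 x.2.le)
      i n i' n' hi hn y

theorem fjRes_pushCpt (P : T.PushData X (j + 1)) (x : X.cdPt (j + 1)) (i n i' n' : ℤ)
    (hi : i' = i + 2 * ((j + 1 : ℕ) : ℤ)) (hn : n' = n + ((j + 1 : ℕ) : ℤ)) (a : T.ptGp X x.1 M i n) :
    ((T.fjRes X (Nat.le_succ j) i' n').app M).hom ((P.cpt x M i n i' n' hi hn).hom a) = 0 := by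
  obtain ⟨W, b, rfl⟩ := exists_rep T (X.ptSub x.1) _ M i n a
  obtain ⟨Y, hx, rfl⟩ := exists_piece_eq (j := j + 1) x.2.ge W
  erw [pushCpt_eq M P x Y hx i n i' n' hi hn b]
  exact fjRes_pushPiece T M x Y i n i' n' hi hn b

/-- Exactness at the upper locus. -/
theorem exact_pushTot_fjRes (P : T.PushData X (j + 1)) (i n i' n' : ℤ)
    (hi : i' = i + 2 * ((j + 1 : ℕ) : ℤ)) (hn : n' = n + ((j + 1 : ℕ) : ℤ)) :
    Function.Exact (P.tot M i n i' n' hi hn).hom ((T.fjRes X (Nat.le_succ j) i' n').app M).hom := by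
  classical
  intro a
  constructor
  · intro h
    obtain ⟨Y, s, z, rfl⟩ := exists_sum_of_fjRes_eq_zero T M i n i' n' hi hn a h
    refine ⟨∑ x ∈ s.attach, DirectSum.lof R (X.cdPt (j + 1)) (fun y => T.ptGp X y.1 M i n) x.1
      (((T.ptι X x.1.1 i n (piece x.1.1 Y.1 (Y.2.1 x.1.1 x.1.2.le))).app M).hom (z x)), ?_⟩
    rw [map_sum]
    refine Finset.sum_congr rfl fun x _ => ?_
    rw [P.tot_lof]
    exact pushCpt_eq M P x.1 Y (Y.2.1 x.1.1 x.1.2.le) i n i' n' hi hn (z x)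
  · rintro ⟨ξ, rfl⟩
    induction ξ using DirectSum.induction_on with
    | zero => simp
    | of x y =>
      rw [← DirectSum.lof_eq_of R, P.tot_lof]
      exact fjRes_pushCpt M P x i n i' n' hi hn y
    | add a b ha hb => rw [map_add, map_add, ha, hb, add_zero]

theorem eq_sum_lof {R : Type*} [Semiring R] {ι : Type*} [DecidableEq ι] {β : ι → Type*}
    [∀ i, AddCommMonoid (β i)] [∀ i, Module R (β i)] (s : Finset ι) (g : ⨁ i, β i) (f : ∀ x : s, β x.1)
    (h1 : ∀ x (hx : x ∈ s), g x = f ⟨x, hx⟩) (h2 : ∀ x, x ∉ s → g x = 0) :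
    g = ∑ x ∈ s.attach, DirectSum.lof R ι β x.1 (f x) := by
  refine DFinsupp.ext fun x => ?_
  rw [DFinsupp.finset_sum_apply]
  by_cases hx : x ∈ s
  · rw [Finset.sum_eq_single ⟨x, hx⟩, h1 x hx]
    · exact (DirectSum.of_eq_same x _).symm
    · exact fun y _ hne => DirectSum.of_eq_of_ne _ _ _ fun e => hne (Subtype.ext e.symm)
    · exact fun h => absurd (Finset.mem_attach _ _) h
  · rw [h2 x hx]
    refine (Finset.sum_eq_zero fun y _ => ?_).symm
    exact DirectSum.of_eq_of_ne _ _ _ fun (e : x = y.1) => hx (e.symm ▸ y.2)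

theorem resTot_eq_sum (Q : T.ResData X j) [DecidableEq (X.cdPt (j + 1))] (U : Idx X (ContainsFj X j))
    {Y : X.scheme.Opens} (hs : IsSplit (j + 1) (outside U.2.1) Y U.1) (i n i' n' : ℤ)
    (hi : i' = i + 1 - 2 * ((j : ℤ) + 1)) (hn : n' = n - ((j : ℤ) + 1)) (b : T.gp (X.res U.1) M i n) :
    (Q.tot M i n i' n' hi hn).hom (((T.fjι X j i n U).app M).hom b) =
      ∑ x ∈ (outside U.2.1).attach, DirectSum.lof R (X.cdPt (j + 1)) (fun y => T.ptGp X y.1 M i' n') x.1
        ((hs.residue T M x.2 i n i' n' (by push_cast; exact hi) (by push_cast; exact hn)).hom b) := by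
  refine eq_sum_lof (R := R) (β := fun y : X.cdPt (j + 1) => T.ptGp X y.1 M i' n') _ _ _ (fun x hx => ?_)
    fun x hx => ?_
  · exact (Q.tot_apply M i n i' n' hi hn _ x).trans (resCpt_eq M Q U hs hx i n i' n' hi hn b)
  · exact (Q.tot_apply M i n i' n' hi hn _ x).trans
      (resCpt_of_mem M Q U x (by_contra fun h => hx ((mem_outside U.2.1).mpr h)) i n i' n' hi hn b)

/-- Exactness at the points. -/
theorem exact_resTot_pushTot (Q : T.ResData X j) (P : T.PushData X (j + 1)) (i n i' n' : ℤ)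
    (hi : i' = i + 1 - 2 * ((j : ℤ) + 1)) (hn : n' = n - ((j : ℤ) + 1))
    (hi2 : i + 1 = i' + 2 * ((j + 1 : ℕ) : ℤ)) (hn2 : n = n' + ((j + 1 : ℕ) : ℤ)) :
    Function.Exact (Q.tot M i n i' n' hi hn).hom (P.tot M i' n' (i + 1) n hi2 hn2).hom := by
  classical
  intro ξ
  constructor
  · intro hξ
    rcases (DFinsupp.support ξ).eq_empty_or_nonempty with he | hne
    · exact ⟨0, by rw [map_zero]; exact (DFinsupp.support_eq_empty.mp he).symm⟩
    let s : Finset (X.cdPt (j + 1)) := DFinsupp.support ξ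
    let U₀ : Idx X (ContainsFj X j) := mkIdx X j
      (s.inf fun x => ⟨(closure {x.1})ᶜ, isClosed_closure.isOpen_compl⟩)
      (finsetInf_mem _ _ fun x _ => containsFj_compl_closure x.2.ge)
    have hU₀ : ∀ {y : X.scheme}, y ∈ U₀.1 ↔ ∀ x ∈ s, ¬x.1 ⤳ y := fun {y} => by
      show y ∈ s.inf _ ↔ _
      rw [← SetLike.mem_coe, Opens.coe_finset_inf, Finset.inf_eq_iInf]
      simp [specializes_iff_mem_closure]
    have hout : outside U₀.2.1 = s := by
      ext x
      rw [mem_outside, hU₀]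
      constructor
      · intro h
        push Not at h
        obtain ⟨y, hy, hyx⟩ := h
        rcases eq_or_ne y.1 x.1 with e | e
        · exact Subtype.ext e ▸ hy
        · have := codim_lt X hyx e
          rw [x.2, y.2] at this
          exact absurd this (lt_irrefl _)
      · exact fun hx h => h x hx specializes_rfl
    obtain ⟨Y₁, hs₁⟩ := exists_split U₀
    rw [hout] at hs₁
    have hrep : ∀ x : s, ∃ (Yx : Idx X (ContainsFj X (j + 1))) (ζ : T.gp ((X.ptSub x.1.1).res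
        (piece x.1.1 Yx.1 (Yx.2.1 x.1.1 x.1.2.le)).1) M i' n'),
        ((T.ptι X x.1.1 i' n' (piece x.1.1 Yx.1 (Yx.2.1 x.1.1 x.1.2.le))).app M).hom ζ = ξ x.1 := fun x => by
      obtain ⟨W, b, hb⟩ := exists_rep T (X.ptSub x.1.1) _ M i' n' (ξ x.1)
      obtain ⟨Yx, hx, rfl⟩ := exists_piece_eq (j := j + 1) x.1.2.ge W
      exact ⟨Yx, b, hb⟩
    choose Yx ζ hζ using hrep
    let Y : Idx X (ContainsFj X (j + 1)) := mkIdx X (j + 1) (Y₁.1 ⊓ s.attach.inf fun x => (Yx x).1)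
      (containsFj_inf X Y₁.2.1 (finsetInf_mem _ _ fun x _ => (Yx x).2.1))
    have hYx : ∀ x : s, Y.1 ≤ (Yx x).1 := fun x => inf_le_right.trans (Finset.inf_le (Finset.mem_attach _ x))
    let ζ' := fun x : s => (T.pull (pieceLE x.1.1 (hYx x) (Y.2.1 x.1.1 x.1.2.le)) M i' n').hom (ζ x)
    have hξs : ξ = ∑ x ∈ s.attach, DirectSum.lof R (X.cdPt (j + 1)) (fun y => T.ptGp X y.1 M i' n') x.1 (ξ x.1) :=
      (DirectSum.sum_support_of ξ).symm.trans
        ((Finset.sum_attach s (fun x => DirectSum.of (fun y : X.cdPt (j + 1) => T.ptGp X y.1 M i' n') x (ξ x))).symm)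
    have hsum : ((T.fjι X (j + 1) (i + 1) n Y).app M).hom (∑ x ∈ s.attach,
        (pushPiece T M (j + 1) x.1.1 x.1.2 Y (Y.2.1 x.1.1 x.1.2.le) i' n' (i + 1) n hi2 hn2).hom (ζ' x)) = 0 := by
      rw [map_sum, ← hξ]
      conv_rhs => rw [hξs, map_sum]
      refine Finset.sum_congr rfl fun x _ => ?_
      rw [P.tot_lof, ← pushCpt_eq M P x.1 Y (Y.2.1 x.1.1 x.1.2.le) i' n' (i + 1) n hi2 hn2 (ζ' x), ← hζ x]
      exact congrArg _ (ι_resI_apply T (X.ptSub x.1.1) _ M i' n'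
        (U := piece x.1.1 Y.1 (Y.2.1 x.1.1 x.1.2.le)) (U' := piece x.1.1 (Yx x).1 ((Yx x).2.1 x.1.1 x.1.2.le))
        ((X.ptSubι x.1.1).preimage_mono (hYx x)) (ζ x))
    obtain ⟨Y', hY', hY'0⟩ := exists_zero T X _ M (i + 1) n hsum
    let U : Idx X (ContainsFj X j) := mkIdx X j (U₀.1 ⊓ Y'.1)
      (containsFj_inf X U₀.2.1 (containsFj_mono X (Nat.le_succ j) _ Y'.2.1))
    have hs : IsSplit (j + 1) s Y'.1 U.1 :=
      hs₁.restrict Y'.1 (hY'.trans inf_le_left) (fun x _ => Y'.2.1 x.1 x.2.le) Y'.2.2 U.2.2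
    let ζ'' := fun x : s => (T.pull (pieceLE x.1.1 hY' (Y'.2.1 x.1.1 x.1.2.le)) M i' n').hom (ζ' x)
    have h0 : (T.push hs.decomp.i M i' n' (i + 1) n (hs.idx_push hne hi2 hn2).1 (hs.idx_push hne hi2 hn2).2).hom
        (∑ x ∈ s.attach, (T.push (hs.part x.2).hom M i' n' i' n' (hs.idx_part x.2 i' n').1
          (hs.idx_part x.2 i' n').2).hom (ζ'' x)) = 0 := by
      rw [hs.push_decomp_sum T M i' n' (i + 1) n hi2 hn2]
      refine Eq.trans ?_ hY'0
      rw [map_sum]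
      exact Finset.sum_congr rfl fun x _ =>
        (pull_push_piece T M x.1.1 x.1.2 hY' Y'.2.2 Y.2.2 (Y'.2.1 x.1.1 x.1.2.le) i' n' (i + 1) n hi2 hn2 (ζ' x)).symm
    obtain ⟨b, hb⟩ := (T.exact_res_push hs.decomp M i n i' n' (hs.idx_res hne (by push_cast; exact hi)
      (by push_cast; exact hn)).1 (hs.idx_res hne (by push_cast; exact hi) (by push_cast; exact hn)).2
      (hs.idx_push hne hi2 hn2).1 (hs.idx_push hne hi2 hn2).2 _).mp h0
    refine ⟨((T.fjι X j i n U).app M).hom b, DFinsupp.ext fun x => ?_⟩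
    rw [Q.tot_apply]
    by_cases hx : x ∈ s
    · rw [resCpt_eq M Q U hs hx i n i' n' hi hn b, ← hζ ⟨x, hx⟩]
      show ((T.ptι X x.1 i' n' _).app M).hom ((T.pull (hs.part hx) M i' n').hom
        ((T.res hs.decomp M i n i' n' _ _).hom b)) = _
      rw [hb, hs.pull_sum_part T M i' n' ζ'' ⟨x, hx⟩]
      exact (ι_resI_apply T (X.ptSub x.1) _ M i' n' (U := piece x.1 Y'.1 (Y'.2.1 x.1 x.2.le))
        (U' := piece x.1 Y.1 (Y.2.1 x.1 x.2.le)) ((X.ptSubι x.1).preimage_mono hY') (ζ' ⟨x, hx⟩)).trans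
        (ι_resI_apply T (X.ptSub x.1) _ M i' n' (U := piece x.1 Y.1 (Y.2.1 x.1 x.2.le))
          (U' := piece x.1 (Yx ⟨x, hx⟩).1 ((Yx ⟨x, hx⟩).2.1 x.1 x.2.le))
          ((X.ptSubι x.1).preimage_mono (hYx ⟨x, hx⟩)) (ζ ⟨x, hx⟩))
    · have hxU : x.1 ∈ U.1 := ⟨by_contra fun h => hx (hout ▸ (mem_outside U₀.2.1).mpr h), Y'.2.1 x.1 x.2.le⟩
      rw [resCpt_of_mem M Q U x hxU i n i' n' hi hn b]
      exact (DFinsupp.notMem_support_iff.mp hx).symm
  · rintro ⟨a, rfl⟩
    obtain ⟨U, b, rfl⟩ := exists_rep T X _ M i n a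
    obtain ⟨Y, hs⟩ := exists_split U
    rw [resTot_eq_sum M Q U hs i n i' n' hi hn b, map_sum]
    rcases (outside U.2.1).eq_empty_or_nonempty with he | hne
    · rw [Finset.sum_eq_zero]
      intro x _
      exact absurd (he ▸ x.2 : x.1 ∈ (∅ : Finset (X.cdPt (j + 1)))) (Finset.notMem_empty _)
    obtain ⟨hiD, hnD⟩ := hs.idx_res hne (i := i) (n := n) (i' := i') (n' := n')
      (by push_cast; exact hi) (by push_cast; exact hn)
    obtain ⟨w, hw⟩ : ∃ w, w = (T.res hs.decomp M i n i' n' hiD hnD).hom b := ⟨_, rfl⟩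
    have h0 := (T.exact_res_push hs.decomp M i n i' n' hiD hnD
      (hs.idx_push hne hi2 hn2).1 (hs.idx_push hne hi2 hn2).2).apply_apply_eq_zero b
    rw [← hw] at h0
    conv at h0 => arg 1; arg 2; rw [hs.eq_sum_part T M hne i' n' w]
    rw [hs.push_decomp_sum T M i' n' (i + 1) n hi2 hn2] at h0
    refine Eq.trans ?_ ((congrArg ((T.fjι X (j + 1) (i + 1) n Y).app M).hom h0).trans (map_zero _))
    rw [map_sum]
    refine Finset.sum_congr rfl fun x _ => ?_
    rw [P.tot_lof, hw]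
    exact pushCpt_eq M P x.1 Y (hs.mem x.1 x.2) i' n' (i + 1) n hi2 hn2 _

/-- Vanishing at the points of the next codimension makes restriction bijective. -/
theorem fjRes_bijective (i n : ℤ)
    (h0 : ∀ x : X.scheme, WeilCoh.codim X.scheme x = j + 1 →
      IsZero (T.ptGp X x M (i - 2 * ((j : ℤ) + 1)) (n - ((j : ℤ) + 1))))
    (h1 : ∀ x : X.scheme, WeilCoh.codim X.scheme x = j + 1 →
      IsZero (T.ptGp X x M (i + 1 - 2 * ((j : ℤ) + 1)) (n - ((j : ℤ) + 1)))) :
    Function.Bijective ((T.fjRes X (Nat.le_succ j) i n).app M).hom := by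
  constructor
  · rw [injective_iff_map_eq_zero]
    intro a ha
    have e1 : i = (i - 2 * ((j : ℤ) + 1)) + 2 * ((j + 1 : ℕ) : ℤ) := by push_cast; ring
    have e2 : n = (n - ((j : ℤ) + 1)) + ((j + 1 : ℕ) : ℤ) := by push_cast; ring
    obtain ⟨Y, s, z, rfl⟩ := exists_sum_of_fjRes_eq_zero T M _ _ i n e1 e2 a ha
    refine Finset.sum_eq_zero fun x _ => fjι_pushPiece_eq_zero T M (j + 1) x.1.1 x.1.2 le_rfl Y _ _ _ i n e1 e2 _ ?_
    haveI := ModuleCat.subsingleton_of_isZero (h0 x.1.1 x.1.2)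
    exact Subsingleton.elim _ _
  · intro a
    refine mem_range_fjRes T M i n (i + 1 - 2 * ((j : ℤ) + 1)) (n - ((j : ℤ) + 1)) (by push_cast; rfl)
      (by push_cast; rfl) a fun U Y b _ hs x hx => ?_
    haveI := ModuleCat.subsingleton_of_isZero (h1 x.1 x.2)
    exact Subsingleton.elim _ _

end Groth.Agent.BMCohLib
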