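import Groth.Agent.BMCohLib.Dim
import Groth.Agent.DVRCrit.Local
import Groth.Prelude.Def_BMCoh3

/-!
# Topology of objects of a Borel–Moore theory
-/

set_option autoImplicit false
set_option linter.style.haveILetI false
set_option backward.isDefEq.respectTransparency false
set_option backward.defeqAttrib.useBackward true

universe u

open AlgebraicGeometry CategoryTheory TopologicalSpace Topology BMCoh

namespace Groth.Agent.BMCohLib

theorem natDim_eq_of_range_eq {S S' T : Type u} [TopologicalSpace S] [TopologicalSpace S'] [TopologicalSpace T]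
    {f : S → T} {g : S' → T} (hf : IsEmbedding f) (hg : IsEmbedding g) (h : Set.range f = Set.range g) :
    WeilCoh.natDim S = WeilCoh.natDim S' :=
  natDim_congr ((hf.toHomeomorph.trans ((Homeomorph.setCongr h).trans hg.toHomeomorph.symm))).isHomeomorph

variable {V : ObjectProperty Scheme.{u}} [IsConstructible V]

theorem dim_lt_top (X : Obj V) : topologicalKrullDim X.scheme < ⊤ := IsConstructible.finiteDim X.mem

theorem isNoetherian (X : Obj V) : IsNoetherian X.scheme := IsConstructible.isNoetherian X.mem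

instance noetherianSpace_obj (X : Obj V) : NoetherianSpace X.scheme := by
  haveI := isNoetherian X
  infer_instance

theorem pdim_le (X : Obj V) (x : X.scheme) : WeilCoh.pdim X.scheme x ≤ WeilCoh.dim X.scheme :=
  natDim_closure_le (dim_lt_top X) x

theorem pdim_lt (X : Obj V) {x y : X.scheme} (h : x ⤳ y) (hne : x ≠ y) :
    WeilCoh.pdim X.scheme y < WeilCoh.pdim X.scheme x :=
  natDim_closure_lt (dim_lt_top X) h hne

theorem pdim_mono (X : Obj V) {x y : X.scheme} (h : x ⤳ y) :
    WeilCoh.pdim X.scheme y ≤ WeilCoh.pdim X.scheme x := by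
  rcases eq_or_ne x y with rfl | hne
  · exact le_rfl
  · exact (pdim_lt X h hne).le

theorem pdim_add_codim (X : Obj V) (x : X.scheme) :
    WeilCoh.pdim X.scheme x + WeilCoh.codim X.scheme x = WeilCoh.dim X.scheme :=
  Nat.add_sub_cancel' (pdim_le X x)

theorem codim_mono (X : Obj V) {x y : X.scheme} (h : x ⤳ y) :
    WeilCoh.codim X.scheme x ≤ WeilCoh.codim X.scheme y := by
  have h1 := pdim_mono X h
  have h2 := pdim_add_codim X x
  have h3 := pdim_add_codim X y
  omega

theorem codim_lt (X : Obj V) {x y : X.scheme} (h : x ⤳ y) (hne : x ≠ y) :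
    WeilCoh.codim X.scheme x < WeilCoh.codim X.scheme y := by
  have h1 := pdim_lt X h hne
  have h2 := pdim_add_codim X x
  have h3 := pdim_add_codim X y
  omega

theorem exists_codim_eq (X : Obj V) [Nonempty X.scheme] {c : ℕ} (hc : c ≤ WeilCoh.dim X.scheme) :
    ∃ x : X.scheme, WeilCoh.codim X.scheme x = c := by
  obtain ⟨x, hx⟩ := exists_natDim_closure_eq (dim_lt_top X) (k := WeilCoh.dim X.scheme - c)
    (Nat.sub_le _ _)
  have hp : WeilCoh.pdim X.scheme x = WeilCoh.dim X.scheme - c := hx
  exact ⟨x, by have := pdim_add_codim X x; omega⟩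

section point

variable (X : Obj V) (x : X.scheme)

theorem range_ptSubι : Set.range (X.ptSubι x) = closure ({x} : Set X.scheme) := by
  rw [Scheme.IdealSheafData.range_subschemeι, Scheme.IdealSheafData.coe_support_vanishingIdeal]
  rfl

instance isReduced_ptSub : IsReduced (X.ptSub x).scheme := DVRCrit.isReduced_vanishingIdeal _

theorem mem_range_ptSubι : x ∈ Set.range (X.ptSubι x) := by
  rw [range_ptSubι]; exact subset_closure rfl

/-- The generic point of the closure. -/
noncomputable def gen : (X.ptSub x).scheme := (mem_range_ptSubι X x).choose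

theorem ptSubι_gen : X.ptSubι x (gen X x) = x := (mem_range_ptSubι X x).choose_spec

theorem gen_specializes (w : (X.ptSub x).scheme) : gen X x ⤳ w := by
  rw [← (X.ptSubι x).isEmbedding.isInducing.specializes_iff, ptSubι_gen]
  exact specializes_iff_mem_closure.mpr ((range_ptSubι X x).le ⟨w, rfl⟩)

instance irreducible_ptSub : IrreducibleSpace (X.ptSub x).scheme :=
  irreducibleSpace_def _ |>.mpr <| by
    have : closure ({gen X x} : Set (X.ptSub x).scheme) = Set.univ :=
      Set.eq_univ_of_forall fun w => specializes_iff_mem_closure.mp (gen_specializes X x w)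
    rw [Set.top_eq_univ, ← this]
    exact isIrreducible_singleton.closure

theorem dim_ptSub : WeilCoh.dim (X.ptSub x).scheme = WeilCoh.pdim X.scheme x := by
  refine natDim_eq_of_range_eq (X.ptSubι x).isEmbedding IsEmbedding.subtypeVal ?_
  rw [range_ptSubι, Subtype.range_coe]

theorem dim_open_ptSub (W : (X.ptSub x).scheme.Opens) (h : (W : Set (X.ptSub x).scheme).Nonempty) :
    WeilCoh.dim (W : Scheme.{u}) = WeilCoh.pdim X.scheme x :=
  (IsConstructible.dim_open (X.ptSub x).mem inferInstance W h).trans (dim_ptSub X x)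

theorem gen_mem (W : (X.ptSub x).scheme.Opens) (h : (W : Set (X.ptSub x).scheme).Nonempty) :
    gen X x ∈ W := by
  obtain ⟨w, hw⟩ := h
  exact (gen_specializes X x w).mem_open W.2 hw

end point

theorem preimage_nonempty (X : Obj V) {x : X.scheme} {U : X.scheme.Opens} (hx : x ∈ U) :
    ((X.ptSubι x ⁻¹ᵁ U) : Set (X.ptSub x).scheme).Nonempty :=
  ⟨gen X x, show X.ptSubι x (gen X x) ∈ U from (ptSubι_gen X x).symm ▸ hx⟩

theorem pdim_open (X : Obj V) (U : X.scheme.Opens) (u : (U : Scheme.{u})) :
    WeilCoh.pdim (U : Scheme.{u}) u = WeilCoh.pdim X.scheme (U.ι u) := by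
  rw [← dim_open_ptSub X (U.ι u) (X.ptSubι (U.ι u) ⁻¹ᵁ U) (preimage_nonempty X u.2)]
  have hemb : IsEmbedding (U.ι ∘ (Subtype.val : closure ({u} : Set (U : Scheme.{u})) → _)) :=
    U.ι.isEmbedding.comp IsEmbedding.subtypeVal
  refine natDim_eq_of_range_eq hemb
    ((X.ptSubι (U.ι u)).isEmbedding.comp (Scheme.Opens.ι _).isEmbedding) ?_
  rw [Set.range_comp, Subtype.range_coe, Set.range_comp (f := (Scheme.Opens.ι _)), Scheme.Opens.range_ι,
    U.ι.isEmbedding.closure_eq_preimage_closure_image, Set.image_singleton,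
    Set.image_preimage_eq_inter_range, Scheme.Opens.range_ι]
  show _ = X.ptSubι (U.ι u) '' (X.ptSubι (U.ι u) ⁻¹' (U : Set X.scheme))
  rw [Set.image_preimage_eq_inter_range, range_ptSubι, Set.inter_comm]

theorem dim_res_le (X : Obj V) (U : X.scheme.Opens) :
    WeilCoh.dim (U : Scheme.{u}) ≤ WeilCoh.dim X.scheme :=
  natDim_mono_of_isInducing U.ι.isEmbedding.isInducing (dim_lt_top X)

/-- An open containing the points of codimension zero has the dimension of the whole. -/
theorem dim_eq_of_containsFj (X : Obj V) {j : ℕ} {U : X.scheme.Opens} (h : ContainsFj X j U) :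
    WeilCoh.dim (U : Scheme.{u}) = WeilCoh.dim X.scheme := by
  refine le_antisymm (dim_res_le X U) ?_
  cases isEmpty_or_nonempty X.scheme with
  | inl he =>
    exact (natDim_of_isEmpty (T := X.scheme)).trans_le (Nat.zero_le _)
  | inr hne =>
    obtain ⟨x, hx⟩ := exists_codim_eq X (c := 0) (Nat.zero_le _)
    have hxU : x ∈ U := h x (by omega)
    have h1 := pdim_add_codim X x
    have h2 : WeilCoh.pdim X.scheme x = WeilCoh.pdim (U : Scheme.{u}) ⟨x, hxU⟩ :=
      (pdim_open X U ⟨x, hxU⟩).symm
    have h3 : WeilCoh.pdim (U : Scheme.{u}) ⟨x, hxU⟩ ≤ WeilCoh.dim (U : Scheme.{u}) := pdim_le (X.res U) _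
    omega

theorem codim_open (X : Obj V) {U : X.scheme.Opens}
    (hd : WeilCoh.dim (U : Scheme.{u}) = WeilCoh.dim X.scheme) (u : (U : Scheme.{u})) :
    WeilCoh.codim (U : Scheme.{u}) u = WeilCoh.codim X.scheme (U.ι u) := by
  unfold WeilCoh.codim
  rw [hd, pdim_open]

/-- A member of the index family from a containment. -/
def mkIdx (X : Obj V) (j : ℕ) (U : X.scheme.Opens) (h : ContainsFj X j U) : Idx X (ContainsFj X j) :=
  ⟨U, h, dim_eq_of_containsFj X h⟩

/-- A member of the index family of a point from nonemptiness. -/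
def mkPtIdx (X : Obj V) (x : X.scheme) (W : (X.ptSub x).scheme.Opens)
    (h : (W : Set (X.ptSub x).scheme).Nonempty) : ptIdx X x :=
  ⟨W, h, (dim_open_ptSub X x W h).trans (dim_ptSub X x).symm⟩

end Groth.Agent.BMCohLib
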