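import Groth.Agent.BMCohLib.Groups

/-!
# Clopen pieces: restriction and push-forward
-/

set_option autoImplicit false
set_option linter.style.haveILetI false
set_option backward.isDefEq.respectTransparency false
set_option backward.defeqAttrib.useBackward true

universe u

open AlgebraicGeometry CategoryTheory CategoryTheory.Limits Opposite BMCoh TopologicalSpace Topology

namespace Groth.Agent.BMCohLib

variable {V : ObjectProperty Scheme.{u}} [IsConstructible V] {R : Type u} [CommRing R] {A : Coefs R}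
  (T : PreTheory V R A) (M : A.Cat)

theorem relCodim_hom {X Y : Obj V} (f : X ⟶ Y) : relCodim X.scheme Y.scheme = 0 := by
  simp [relCodim, f.dim_eq]

theorem exact_push_pull_apply {X : Obj V} (D : Decomp X) (i n i' n' : ℤ)
    (hi' : i = i' + 2 * relCodim D.Z.scheme X.scheme) (hn' : n = n' + relCodim D.Z.scheme X.scheme)
    (a : T.gp X M i n) :
    (T.pull D.j M i n).hom a = 0 ↔ ∃ z, (T.push D.i M i' n' i n hi' hn').hom z = a := by
  obtain ⟨i0, rfl⟩ : ∃ i0, i = i0 + 1 := ⟨i - 1, by ring⟩
  exact T.exact_push_pull D M i0 n i' n' hi' hn' a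

theorem pull_push_decomp {X : Obj V} (D : Decomp X) (i n i' n' : ℤ)
    (hi' : i = i' + 2 * relCodim D.Z.scheme X.scheme) (hn' : n = n' + relCodim D.Z.scheme X.scheme)
    (z : T.gp D.Z M i' n') :
    (T.pull D.j M i n).hom ((T.push D.i M i' n' i n hi' hn').hom z) = 0 :=
  (exact_push_pull_apply T M D i n i' n' hi' hn' _).mpr ⟨z, rfl⟩

/-- The clopen decomposition given by two complementary morphisms of objects. -/
noncomputable def clopenDecomp {X Y W : Obj V} (iX : X ⟶ W) (iY : Y ⟶ W)
    (h : Set.range iX.hom = (Set.range iY.hom)ᶜ) : Decomp W where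
  Z := X
  U := Y
  i := iX.hom
  closedImm := IsClosedImmersion.of_isPreimmersion _ (by
    rw [h]; exact iY.hom.isOpenEmbedding.isOpen_range.isClosed_compl)
  j := iY
  range_eq := by rw [h, compl_compl]

theorem pull_push_self {X W : Obj V} (iX : X ⟶ W) [IsProper iX.hom] (i n : ℤ)
    (hi : i = i + 2 * relCodim X.scheme W.scheme) (hn : n = n + relCodim X.scheme W.scheme)
    (a : T.gp X M i n) :
    (T.pull iX M i n).hom ((T.push iX.hom M i n i n hi hn).hom a) = a := by
  have sq : IsPullback (𝟙 X : X ⟶ X).hom (𝟙 X.scheme) iX.hom iX.hom :=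
    IsKernelPair.id_of_mono iX.hom
  have h := T.push_pull iX.hom (𝟙 X.scheme) iX (𝟙 X) sq M i n i n hi hn
    (by simp [relCodim]) (by simp [relCodim])
  have := congrArg (fun φ => φ.hom a) h
  simp only [ModuleCat.hom_comp, LinearMap.comp_apply] at this
  refine this.trans ?_
  rw [T.push_id]
  simp

theorem isProper_hom_of_isClosed {X W : Obj V} (iX : X ⟶ W) (h : IsClosed (Set.range iX.hom)) :
    IsProper iX.hom := by
  haveI := IsClosedImmersion.of_isPreimmersion iX.hom h
  infer_instance

/-- Additivity: a class is a pair of classes on complementary clopen pieces. -/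
theorem pull_prod_bijective {X Y W : Obj V} (iX : X ⟶ W) (iY : Y ⟶ W)
    (h : Set.range iX.hom = (Set.range iY.hom)ᶜ) (i n : ℤ) :
    Function.Bijective (fun a : T.gp W M i n => ((T.pull iX M i n).hom a, (T.pull iY M i n).hom a)) := by
  have h' : Set.range iY.hom = (Set.range iX.hom)ᶜ := by rw [h, compl_compl]
  haveI := (clopenDecomp iX iY h).closedImm
  haveI : IsClosedImmersion iX.hom := (clopenDecomp iX iY h).closedImm
  haveI : IsClosedImmersion iY.hom := (clopenDecomp iY iX h').closedImm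
  have ci : ∀ {A B : Obj V} (g : A ⟶ B), i = i + 2 * relCodim A.scheme B.scheme ∧
      n = n + relCodim A.scheme B.scheme := fun g => by simp [relCodim_hom g]
  constructor
  · intro a b hab
    simp only [Prod.mk.injEq] at hab
    obtain ⟨h1, h2⟩ := hab
    rw [← sub_eq_zero] at h1 h2 ⊢
    rw [← map_sub] at h1 h2
    obtain ⟨c, hc⟩ := (exact_push_pull_apply T M (clopenDecomp iX iY h) i n i n (ci iX).1 (ci iX).2 _).mp h2
    rw [← hc] at h1 ⊢
    rw [(pull_push_self T M iX i n (ci iX).1 (ci iX).2 c).symm.trans h1]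
    exact map_zero _
  · rintro ⟨x, y⟩
    refine ⟨(T.push iX.hom M i n i n (ci iX).1 (ci iX).2).hom x +
      (T.push iY.hom M i n i n (ci iY).1 (ci iY).2).hom y, ?_⟩
    have o1 : (T.pull iY M i n).hom ((T.push iX.hom M i n i n (ci iX).1 (ci iX).2).hom x) = 0 :=
      pull_push_decomp T M (clopenDecomp iX iY h) i n i n _ _ x
    have o2 : (T.pull iX M i n).hom ((T.push iY.hom M i n i n (ci iY).1 (ci iY).2).hom y) = 0 :=
      pull_push_decomp T M (clopenDecomp iY iX h') i n i n _ _ y
    simp only [map_add, o1, o2, pull_push_self, add_zero, zero_add]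

theorem dim_le_of_hom_range {X Z : Obj V} (k : X ⟶ Z) (O : Z.scheme.Opens)
    (h : Set.range k.hom ⊆ O) : WeilCoh.dim (O : Scheme.{u}) = WeilCoh.dim Z.scheme := by
  refine le_antisymm (dim_res_le Z O) ?_
  rw [← k.dim_eq]
  exact natDim_mono_of_isInducing
    (IsOpenImmersion.lift O.ι k.hom (by rwa [Scheme.Opens.range_ι])).isEmbedding.isInducing
    (dim_lt_top (Z.res O))

/-- A factorisation of a morphism of objects through an open containing its image. -/
noncomputable def homLift {X Z : Obj V} (k : X ⟶ Z) (O : Z.scheme.Opens)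
    (h : Set.range k.hom ⊆ O) : X ⟶ Z.res O :=
  ⟨IsOpenImmersion.lift O.ι k.hom (by rwa [Scheme.Opens.range_ι]), inferInstance,
    k.dim_eq.trans (dim_le_of_hom_range k O h).symm⟩

theorem homLift_fac {X Z : Obj V} (k : X ⟶ Z) (O : Z.scheme.Opens) (h : Set.range k.hom ⊆ O) :
    homLift k O h ≫ Z.resι O (dim_le_of_hom_range k O h) = k :=
  Hom.ext (IsOpenImmersion.lift_fac _ _ _)

/-- Restriction to one piece kills what is pushed from a disjoint one. -/
theorem pull_push_disjoint {X Y Z : Obj V} (kx : X ⟶ Z) [IsProper kx.hom] (ky : Y ⟶ Z)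
    (hd : Disjoint (Set.range ky.hom) (Set.range kx.hom)) (i n : ℤ)
    (hi : i = i + 2 * relCodim X.scheme Z.scheme) (hn : n = n + relCodim X.scheme Z.scheme)
    (x : T.gp X M i n) : (T.pull ky M i n).hom ((T.push kx.hom M i n i n hi hn).hom x) = 0 := by
  let O : Z.scheme.Opens := ⟨(Set.range kx.hom)ᶜ, kx.hom.isClosedMap.isClosed_range.isOpen_compl⟩
  have hO : Set.range ky.hom ⊆ O := Set.subset_compl_iff_disjoint_right.mpr hd
  have hrange : Set.range kx.hom = (Set.range (Z.resι O (dim_le_of_hom_range ky O hO)).hom)ᶜ := by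
    show _ = (Set.range O.ι)ᶜ
    rw [Scheme.Opens.range_ι]
    exact (compl_compl _).symm
  have h0 := pull_push_decomp T M (clopenDecomp kx _ hrange) i n i n hi hn x
  rw [← homLift_fac ky O hO, ← pull_pull_apply, show (T.pull (Z.resι O _) M i n).hom
    ((T.push kx.hom M i n i n hi hn).hom x) = 0 from h0, map_zero]

theorem pull_injective_of_isIso {X Z : Obj V} (k : X ⟶ Z) (h : Function.Surjective k.hom)
    (i n : ℤ) : Function.Injective (T.pull k M i n).hom := by
  haveI : IsIso k.hom := (isIso_iff_isOpenImmersion_and_surjective _).mpr ⟨inferInstance, ⟨h⟩⟩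
  let g : Z ⟶ X := ⟨inv k.hom, inferInstance, k.dim_eq.symm⟩
  intro a b hab
  have := congrArg (T.pull g M i n).hom hab
  rwa [pull_pull_apply, pull_pull_apply,
    show g ≫ k = 𝟙 Z from Hom.ext (IsIso.inv_hom_id k.hom), pull_id, pull_id] at this

/-- A class vanishing on each piece of a finite clopen cover vanishes. -/
theorem eq_zero_of_pull_eq_zero : ∀ (N : ℕ) {Z : Obj V} {ι : Type u} (s : Finset ι), s.card = N →
    ∀ (W : ι → Obj V) (k : ∀ x, W x ⟶ Z), s.Nonempty →
    (∀ x ∈ s, IsClosed (Set.range (k x).hom)) →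
    (∀ x ∈ s, ∀ y ∈ s, x ≠ y → Disjoint (Set.range (k x).hom) (Set.range (k y).hom)) →
    (∀ z : Z.scheme, ∃ x ∈ s, z ∈ Set.range (k x).hom) →
    ∀ (i n : ℤ) (a : T.gp Z M i n), (∀ x ∈ s, (T.pull (k x) M i n).hom a = 0) → a = 0 := by
  intro N
  induction N with
  | zero => intro Z ι s hs W k hne; simp_all
  | succ N ih =>
    intro Z ι s hs W k hne hcl hdisj hcov i n a ha
    classical
    obtain ⟨x, hx⟩ := hne
    rcases (s.erase x).eq_empty_or_nonempty with he | hne'
    · refine pull_injective_of_isIso T M (k x) (fun z => ?_) i n ((ha x hx).trans (map_zero _).symm)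
      obtain ⟨y, hy, hz⟩ := hcov z
      obtain rfl : y = x := by
        by_contra hyx
        simpa [he] using Finset.mem_erase.mpr ⟨hyx, hy⟩
      exact hz
    let O : Z.scheme.Opens := ⟨(Set.range (k x).hom)ᶜ, (hcl x hx).isOpen_compl⟩
    have hO : ∀ y ∈ s.erase x, Set.range (k y).hom ⊆ O := fun y hy =>
      Set.subset_compl_iff_disjoint_right.mpr
        (hdisj y (Finset.mem_of_mem_erase hy) x hx (Finset.ne_of_mem_erase hy))
    obtain ⟨y₀, hy₀⟩ := hne'
    have hdO := dim_le_of_hom_range (k y₀) O (hO y₀ hy₀)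
    have hr : Set.range (k x).hom = (Set.range (Z.resι O hdO).hom)ᶜ := by
      show _ = (Set.range O.ι)ᶜ
      rw [Scheme.Opens.range_ι]
      exact (compl_compl _).symm
    refine (pull_prod_bijective T M (k x) (Z.resι O hdO) hr i n).1 ?_
    simp only [map_zero, Prod.mk.injEq]
    refine ⟨ha x hx, ?_⟩
    let k' : ∀ y : {y // y ∈ s.erase x}, W y.1 ⟶ Z.res O := fun y => homLift (k y.1) O (hO y.1 y.2)
    have hfac : ∀ (y : {y // y ∈ s.erase x}) (w : (W y.1).scheme),
        O.ι ((k' y).hom w) = (k y.1).hom w := fun y w => by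
      rw [← Scheme.Hom.comp_apply]
      exact congrArg (fun f : W y.1 ⟶ Z => f.hom w) (homLift_fac (k y.1) O (hO y.1 y.2))
    have hrk : ∀ y : {y // y ∈ s.erase x}, Set.range (k' y).hom = O.ι ⁻¹' Set.range (k y.1).hom :=
      fun y => Set.ext fun o => ⟨fun ⟨w, hw⟩ => ⟨w, (hfac y w).symm.trans (hw ▸ rfl)⟩,
        fun ⟨w, hw⟩ => ⟨w, O.ι.isEmbedding.injective ((hfac y w).trans hw)⟩⟩
    refine ih (Z := Z.res O) (s.erase x).attach ?_ (fun y => W y.1) k'
      ⟨⟨y₀, hy₀⟩, Finset.mem_attach _ _⟩ ?_ ?_ ?_ i n _ ?_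
    · rw [Finset.card_attach, Finset.card_erase_of_mem hx, hs]; rfl
    · intro y _
      rw [hrk]
      exact (hcl _ (Finset.mem_of_mem_erase y.2)).preimage O.ι.continuous
    · intro y _ y' _ hne
      rw [hrk, hrk]
      exact (hdisj _ (Finset.mem_of_mem_erase y.2) _ (Finset.mem_of_mem_erase y'.2)
        fun e => hne (Subtype.ext e)).preimage _
    · intro o
      obtain ⟨y, hy, hz⟩ := hcov (O.ι o)
      refine ⟨⟨y, Finset.mem_erase.mpr ⟨?_, hy⟩⟩, Finset.mem_attach _ _, ?_⟩
      · rintro rfl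
        exact o.2 hz
      · rw [hrk]; exact hz
    · intro y _
      rw [pull_pull_apply, homLift_fac]
      exact ha _ (Finset.mem_of_mem_erase y.2)

end Groth.Agent.BMCohLib
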