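import Groth.Agent.BMCohLib.Vanishing
import Groth.Prelude.Def_BMCoh4
import Mathlib.AlgebraicGeometry.Morphisms.Proper

/-!
# Push-forward data between groups of points
-/

set_option autoImplicit false
set_option linter.style.haveILetI false
set_option backward.isDefEq.respectTransparency false
set_option backward.defeqAttrib.useBackward true

universe u v

open AlgebraicGeometry CategoryTheory CategoryTheory.Limits Opposite BMCoh TopologicalSpace Topology

namespace Groth.Agent.BMCohLib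

/-- The height of a point does not increase along a closed continuous map. -/
theorem height_le_of_isClosedMap {S S' : Type v} [TopologicalSpace S] [TopologicalSpace S'] [QuasiSober S']
    [T0Space S'] {f : S → S'} (hc : Continuous f) (hf : IsClosedMap f) :
    ∀ (k : ℕ) (w : S), (k : ℕ∞) ≤ Order.height (pt (f w)) → (k : ℕ∞) ≤ Order.height (pt w) := by
  intro k
  induction k with
  | zero => intro w _; simp
  | succ k ih =>
    intro w hw
    obtain ⟨p, hlast, hlen⟩ := Order.exists_series_of_le_height _ hw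
    have hk : k < p.length + 0 := by omega
    let prev := p ⟨k, by omega⟩
    obtain ⟨v, hv⟩ := exists_pt_eq prev
    have hlt : pt v < pt (f w) := by
      rw [hv, ← hlast]
      exact p.strictMono (show (⟨k, by omega⟩ : Fin (p.length + 1)) < Fin.last _ from by
        simp only [Fin.lt_def, Fin.val_last]; omega)
    have hkv : (k : ℕ∞) ≤ Order.height (pt v) := by
      have h0 := Order.length_le_height_last (p := p.take ⟨k, by omega⟩)
      rw [RelSeries.last_take] at h0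
      rw [hv]
      exact le_trans (by simp) h0
    have hspec : f w ⤳ v := pt_le_pt.mp hlt.le
    obtain ⟨w', hw', rfl⟩ := hf.specializingMap hspec
    have hlt' : pt w' < pt w := lt_of_le_not_ge (pt_le_pt.mpr hw')
      fun h' => hlt.not_ge (pt_le_pt.mpr ((pt_le_pt.mp h').map hc))
    calc ((k + 1 : ℕ) : ℕ∞) = (k : ℕ∞) + 1 := by push_cast; rfl
      _ ≤ Order.height (pt w') + 1 := by gcongr; exact ih w' hkv
      _ ≤ Order.height (pt w) := Order.height_add_one_le hlt'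

variable {V : ObjectProperty Scheme.{u}} [IsConstructible V] {R : Type u} [CommRing R] {A : Coefs R}
  {T : PreTheory V R A} {X Y : Obj V} {φ : Y.scheme ⟶ X.scheme} {y : Y.scheme} {x : X.scheme}
  (M : A.Cat)

theorem exists_lift_ptSub (hx : φ y = x) :
    ∃ ψ : (Y.ptSub y).scheme ⟶ (X.ptSub x).scheme, ψ ≫ X.ptSubι x = Y.ptSubι y ≫ φ := by
  refine exists_lift_vanishingIdeal _ _ ?_
  rintro _ ⟨w, rfl⟩
  exact specializes_iff_mem_closure.mp (hx ▸ (ptSubι_specializes y w).map φ.continuous)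

theorem pdim_gen (x : X.scheme) : WeilCoh.pdim (X.ptSub x).scheme (gen X x) = WeilCoh.dim (X.ptSub x).scheme := by
  refine natDim_eq_of_range_eq (f := (Subtype.val : closure ({gen X x} : Set (X.ptSub x).scheme) → _))
    IsEmbedding.subtypeVal (g := id) IsEmbedding.id ?_
  rw [Subtype.range_coe, Set.range_id]
  exact Set.eq_univ_of_forall fun w => specializes_iff_mem_closure.mp (gen_specializes X x w)

variable (ψ : (Y.ptSub y).scheme ⟶ (X.ptSub x).scheme)

theorem map_gen (hψ : ψ ≫ X.ptSubι x = Y.ptSubι y ≫ φ) (hx : φ y = x) : ψ (gen Y y) = gen X x := by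
  apply (X.ptSubι x).isEmbedding.injective
  rw [← Scheme.Hom.comp_apply, hψ, Scheme.Hom.comp_apply, ptSubι_gen, ptSubι_gen, hx]

theorem eq_gen_of_map_eq (hψ : ψ ≫ X.ptSubι x = Y.ptSubι y ≫ φ) [IsProper φ]
    (hd : WeilCoh.dim (Y.ptSub y).scheme = WeilCoh.dim (X.ptSub x).scheme)
    {w : (Y.ptSub y).scheme} (hw : ψ w = gen X x) : w = gen Y y := by
  haveI : IsProper (ψ ≫ X.ptSubι x) := hψ.symm ▸ inferInstance
  haveI : IsProper ψ := IsProper.of_comp ψ (X.ptSubι x)
  by_contra hne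
  have h1 := pdim_lt (Y.ptSub y) (gen_specializes Y y w) (Ne.symm hne)
  rw [pdim_gen, hd, ← pdim_gen x, ← hw] at h1
  have h2 : WeilCoh.pdim (X.ptSub x).scheme (ψ w) ≤ WeilCoh.pdim (Y.ptSub y).scheme w := by
    show WeilCoh.natDim (closure ({ψ w} : Set (X.ptSub x).scheme)) ≤ WeilCoh.natDim (closure ({w} : Set (Y.ptSub y).scheme))
    rw [natDim_closure, natDim_closure]
    obtain ⟨a, ha⟩ := ENat.ne_top_iff_exists.mp (height_ne_top (dim_lt_top (X.ptSub x)) (pt (ψ w)))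
    refine ENat.toNat_le_toNat ?_ (height_ne_top (dim_lt_top (Y.ptSub y)) _)
    rw [← ha]
    exact height_le_of_isClosedMap ψ.continuous ψ.isClosedMap a w ha.le
  omega

/-- The piece over a piece of the target. -/
noncomputable def preIdx (hψ : ψ ≫ X.ptSubι x = Y.ptSubι y ≫ φ) (hx : φ y = x) (W' : ptIdx X x) : ptIdx Y y :=
  mkPtIdx Y y (ψ ⁻¹ᵁ W'.1) ⟨gen Y y, show ψ (gen Y y) ∈ W'.1 from (map_gen ψ hψ hx).symm ▸ gen_mem X x W'.1 W'.2.1⟩

theorem exists_preIdx_le (hψ : ψ ≫ X.ptSubι x = Y.ptSubι y ≫ φ) (hx : φ y = x) [IsProper φ]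
    (hd : WeilCoh.dim (Y.ptSub y).scheme = WeilCoh.dim (X.ptSub x).scheme) (W : ptIdx Y y)
    (W₀ : ptIdx X x) : ∃ W' : ptIdx X x, W'.1 ≤ W₀.1 ∧ (preIdx ψ hψ hx W').1 ≤ W.1 := by
  haveI : IsProper (ψ ≫ X.ptSubι x) := hψ.symm ▸ inferInstance
  haveI : IsProper ψ := IsProper.of_comp ψ (X.ptSubι x)
  refine ⟨mkPtIdx X x (W₀.1 ⊓ ⟨(ψ '' (W.1 : Set (Y.ptSub y).scheme)ᶜ)ᶜ,
    (ψ.isClosedMap _ W.1.2.isClosed_compl).isOpen_compl⟩) ⟨gen X x, gen_mem X x W₀.1 W₀.2.1, ?_⟩,
    inf_le_left, fun w hw => ?_⟩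
  · rintro ⟨w, hw, hwx⟩
    exact hw (eq_gen_of_map_eq ψ hψ hd hwx ▸ gen_mem Y y W.1 W.2.1)
  · by_contra h
    exact hw.2 ⟨w, h, rfl⟩

theorem dim_eq_of_ptPush (L : T.PtPush φ y x) : WeilCoh.dim (Y.ptSub y).scheme = WeilCoh.dim (X.ptSub x).scheme := by
  have h : (WeilCoh.dim (X.ptSub x).scheme : ℤ) - WeilCoh.dim (Y.ptSub y).scheme = 0 := L.codim_eq
  omega

theorem relCodim_preIdx (hψ : ψ ≫ X.ptSubι x = Y.ptSubι y ≫ φ) (hx : φ y = x)
    (hd : WeilCoh.dim (Y.ptSub y).scheme = WeilCoh.dim (X.ptSub x).scheme) (W' : ptIdx X x) :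
    relCodim ((Y.ptSub y).res (preIdx ψ hψ hx W').1).scheme ((X.ptSub x).res W'.1).scheme = 0 := by
  have h1 := (preIdx ψ hψ hx W').2.2
  have h2 := W'.2.2
  show (WeilCoh.dim (W'.1 : Scheme.{u}) : ℤ) - WeilCoh.dim ((preIdx ψ hψ hx W').1 : Scheme.{u}) = 0
  omega

/-- The restriction of the map of closures to a piece. -/
noncomputable def preMap (hψ : ψ ≫ X.ptSubι x = Y.ptSubι y ≫ φ) (hx : φ y = x) (W' : ptIdx X x) :
    ((Y.ptSub y).res (preIdx ψ hψ hx W').1).scheme ⟶ ((X.ptSub x).res W'.1).scheme :=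
  ψ ∣_ W'.1

theorem preMap_ι (hψ : ψ ≫ X.ptSubι x = Y.ptSubι y ≫ φ) (hx : φ y = x) (W' : ptIdx X x) :
    preMap ψ hψ hx W' ≫ W'.1.ι = (preIdx ψ hψ hx W').1.ι ≫ ψ :=
  morphismRestrict_ι _ _

theorem isProper_preMap (hψ : ψ ≫ X.ptSubι x = Y.ptSubι y ≫ φ) (hx : φ y = x) [IsProper φ] (W' : ptIdx X x) :
    IsProper (preMap ψ hψ hx W') := by
  haveI : IsProper (ψ ≫ X.ptSubι x) := hψ.symm ▸ inferInstance
  haveI : IsProper ψ := IsProper.of_comp ψ (X.ptSubι x)
  exact IsZariskiLocalAtTarget.restrict (P := @IsProper) inferInstance _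

/-- Push-forward along the restriction to a piece. -/
noncomputable def pushPre (hψ : ψ ≫ X.ptSubι x = Y.ptSubι y ≫ φ) (hx : φ y = x) [IsProper φ]
    (hd : WeilCoh.dim (Y.ptSub y).scheme = WeilCoh.dim (X.ptSub x).scheme) (W' : ptIdx X x) (i n : ℤ) :
    T.gp ((Y.ptSub y).res (preIdx ψ hψ hx W').1) M i n ⟶ T.gp ((X.ptSub x).res W'.1) M i n :=
  haveI := isProper_preMap ψ hψ hx W'
  T.push (preMap ψ hψ hx W') M i n i n (by rw [relCodim_preIdx ψ hψ hx hd]; ring)
    (by rw [relCodim_preIdx ψ hψ hx hd]; ring)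

variable (L : T.PtPush φ y x)

theorem cpt_apply (hψ : ψ ≫ X.ptSubι x = Y.ptSubι y ≫ φ) (hx : φ y = x) [IsProper φ]
    (W' : ptIdx X x) (i n : ℤ) (b : T.gp ((Y.ptSub y).res (preIdx ψ hψ hx W').1) M i n) :
    (L.cpt M i n).hom (((T.ptι Y y i n (preIdx ψ hψ hx W')).app M).hom b) =
      ((T.ptι X x i n W').app M).hom ((pushPre M ψ hψ hx (dim_eq_of_ptPush L) W' i n).hom b) := by
  haveI := isProper_preMap ψ hψ hx W'
  exact congrArg (fun φ => φ.hom b) (L.cpt_spec M i n (preIdx ψ hψ hx W') W' (preMap ψ hψ hx W')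
    (by rw [← Category.assoc, preMap_ι, Category.assoc, hψ]) _ _)

theorem subsingleton_ptPush [IsProper φ] : Subsingleton (T.PtPush φ y x) := by
  refine ⟨fun L L' => ?_⟩
  suffices h : L.cpt = L'.cpt by cases L; cases L'; cases h; rfl
  funext N i n
  ext a
  have hx : φ y = x := L.maps_pt
  obtain ⟨ψ, hψ⟩ := exists_lift_ptSub hx
  obtain ⟨W, b, rfl⟩ := exists_rep T (Y.ptSub y) _ N i n a
  obtain ⟨W', -, hle⟩ := exists_preIdx_le ψ hψ hx (dim_eq_of_ptPush L) W
    (mkPtIdx X x ⊤ ⟨gen X x, trivial⟩)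
  rw [← ι_resI_apply T (Y.ptSub y) _ N i n (U := preIdx ψ hψ hx W') (U' := W) hle]
  exact (cpt_apply N ψ L hψ hx W' i n _).trans (cpt_apply N ψ L' hψ hx W' i n _).symm

theorem isPullback_preMap (hψ : ψ ≫ X.ptSubι x = Y.ptSubι y ≫ φ) (hx : φ y = x) {W' W'' : ptIdx X x}
    (h : W''.1 ≤ W'.1) :
    IsPullback ((Y.ptSub y).scheme.homOfLE (ψ.preimage_mono h)) (preMap ψ hψ hx W'') (preMap ψ hψ hx W')
      ((X.ptSub x).scheme.homOfLE h) := by
  refine IsPullback.of_right ?_ ?_ (isPullback_morphismRestrict ψ W'.1).flip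
  · rw [Scheme.homOfLE_ι, Scheme.homOfLE_ι]
    exact (isPullback_morphismRestrict ψ W''.1).flip
  · rw [← cancel_mono W'.1.ι, Category.assoc, Category.assoc, Scheme.homOfLE_ι]
    erw [preMap_ι, preMap_ι, ← Category.assoc, Scheme.homOfLE_ι]
    rfl

/-- A map of closures that is an isomorphism over an open induces a bijection on groups of points. -/
theorem cpt_bijective [IsProper φ] (hψ : ψ ≫ X.ptSubι x = Y.ptSubι y ≫ φ) (hx : φ y = x) (W₀ : ptIdx X x)
    (hiso : ∀ W' : ptIdx X x, W'.1 ≤ W₀.1 → IsIso (ψ ∣_ W'.1)) (i n : ℤ) :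
    Function.Bijective (L.cpt M i n).hom := by
  have hd := dim_eq_of_ptPush L
  have e : ∀ W' : ptIdx X x, i = i + 2 * relCodim ((Y.ptSub y).res (preIdx ψ hψ hx W').1).scheme
      ((X.ptSub x).res W'.1).scheme ∧ n = n + relCodim ((Y.ptSub y).res (preIdx ψ hψ hx W').1).scheme
      ((X.ptSub x).res W'.1).scheme := fun W' => by rw [relCodim_preIdx ψ hψ hx hd]; simp
  have key : ∀ (W' : ptIdx X x), W'.1 ≤ W₀.1 →
      Function.Bijective (pushPre (T := T) M ψ hψ hx hd W' i n).hom := fun W' hW' => by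
    haveI : IsIso (preMap ψ hψ hx W') := hiso W' hW'
    haveI := isProper_preMap ψ hψ hx W'
    let g : (Y.ptSub y).res (preIdx ψ hψ hx W').1 ⟶ (X.ptSub x).res W'.1 :=
      ⟨preMap ψ hψ hx W', inferInstance, by
        have h1 := (preIdx ψ hψ hx W').2.2
        have h2 := W'.2.2
        show WeilCoh.dim ((preIdx ψ hψ hx W').1 : Scheme.{u}) = WeilCoh.dim (W'.1 : Scheme.{u})
        omega⟩
    haveI : IsProper g.hom := isProper_preMap ψ hψ hx W'
    have hb := pull_bijective_of_isIso (T := T) M g (preMap ψ hψ hx W').homeomorph.surjective i n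
    exact (hb.of_comp_iff' _).mp (by
      convert Function.bijective_id
      funext b
      exact pull_push_self T M g i n (e W').1 (e W').2 b)
  constructor
  · rw [injective_iff_map_eq_zero]
    intro a ha
    obtain ⟨W, b, rfl⟩ := exists_rep T (Y.ptSub y) _ M i n a
    obtain ⟨W', hW', hle⟩ := exists_preIdx_le ψ hψ hx hd W W₀
    rw [← ι_resI_apply T (Y.ptSub y) _ M i n (U := preIdx ψ hψ hx W') (U' := W) hle] at ha ⊢
    generalize (resI T (Y.ptSub y) _ M i n hle).hom b = b' at ha ⊢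
    rw [cpt_apply M ψ L hψ hx W' i n b'] at ha
    obtain ⟨W'', hle', hz⟩ := exists_zero T (X.ptSub x) _ M i n ha
    rw [← ι_resI_apply T (Y.ptSub y) _ M i n (U := preIdx ψ hψ hx W'') (U' := preIdx ψ hψ hx W')
      (ψ.preimage_mono hle')]
    refine (congrArg _ ?_).trans (map_zero _)
    apply (key W'' (hle'.trans hW')).1
    rw [map_zero]
    haveI := isProper_preMap ψ hψ hx W'
    haveI := isProper_preMap ψ hψ hx W''
    exact (congrArg (fun φ => φ.hom b') (T.push_pull (preMap ψ hψ hx W') (preMap ψ hψ hx W'')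
      ((X.ptSub x).resLE hle' (W''.2.2.trans W'.2.2.symm))
      ((Y.ptSub y).resLE (ψ.preimage_mono hle') ((preIdx ψ hψ hx W'').2.2.trans (preIdx ψ hψ hx W').2.2.symm))
      (isPullback_preMap ψ hψ hx hle') M i n i n (e W').1 (e W').2 (e W'').1 (e W'').2)).symm.trans hz
  · intro c
    obtain ⟨W, b, rfl⟩ := exists_rep T (X.ptSub x) _ M i n c
    let W' := mkPtIdx X x (W.1 ⊓ W₀.1) ⟨gen X x, gen_mem X x W.1 W.2.1, gen_mem X x W₀.1 W₀.2.1⟩
    rw [← ι_resI_apply T (X.ptSub x) _ M i n (U := W') (U' := W) inf_le_left]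
    obtain ⟨b', hb'⟩ := (key W' inf_le_right).2 ((resI T (X.ptSub x) _ M i n (U := W') (U' := W) inf_le_left).hom b)
    exact ⟨((T.ptι Y y i n (preIdx ψ hψ hx W')).app M).hom b',
      (cpt_apply M ψ L hψ hx W' i n b').trans (congrArg _ hb')⟩

end Groth.Agent.BMCohLib
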