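import Groth.Agent.BMCohLib.Split

/-!
# Existence of split opens, and residues at the points of a split
-/

set_option autoImplicit false
set_option linter.style.haveILetI false
set_option backward.isDefEq.respectTransparency false
set_option backward.defeqAttrib.useBackward true

universe u

open AlgebraicGeometry CategoryTheory CategoryTheory.Limits Opposite BMCoh TopologicalSpace Topology

namespace Groth.Agent.BMCohLib

variable {V : ObjectProperty Scheme.{u}} [IsConstructible V] {R : Type u} [CommRing R] {A : Coefs R}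
  (T : PreTheory V R A) {X : Obj V} {j : ℕ} (M : A.Cat)

theorem not_mem_of_codim_le {U : X.scheme.Opens} (hU : ContainsFj X j U) {y : X.scheme}
    (hy : y ∉ U) : j + 1 ≤ WeilCoh.codim X.scheme y := by
  by_contra h
  exact hy (hU y (by omega))

/-- The points of codimension one more than the bound outside an open are finitely many. -/
theorem finite_outside {U : X.scheme.Opens} (hU : ContainsFj X j U) :
    {x : X.cdPt (j + 1) | x.1 ∉ U}.Finite := by
  obtain ⟨S, hSfin, hSc, hSi, hS⟩ :=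
    NoetherianSpace.exists_finite_set_isClosed_irreducible (U.2.isClosed_compl)
  have hmem : ∀ x : {x : X.cdPt (j + 1) | x.1 ∉ U}, ∃ t : S, x.1.1 ∈ t.1 := fun x => by
    obtain ⟨t, ht, hx⟩ : x.1.1 ∈ ⋃₀ S := hS ▸ x.2
    exact ⟨⟨t, ht⟩, hx⟩
  haveI := hSfin.to_subtype
  refine Set.finite_coe_iff.mp (Finite.of_injective (fun x => (hmem x).choose) fun x x' e => ?_)
  simp only at e
  let t := (hmem x).choose
  have h1 : x.1.1 ∈ t.1 := (hmem x).choose_spec
  have h2 : x'.1.1 ∈ t.1 := by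
    show _ ∈ ((hmem x).choose).1
    rw [e]; exact (hmem x').choose_spec
  obtain ⟨g, hg⟩ : ∃ g, IsGenericPoint g t.1 :=
    ⟨_, (hSi t.1 t.2).isGenericPoint_genericPoint (hSc t.1 t.2)⟩
  have hgU : g ∉ U := show g ∈ (U : Set X.scheme)ᶜ from hS ▸ Set.mem_sUnion_of_mem hg.mem t.2
  have key : ∀ y : X.cdPt (j + 1), y.1 ∈ t.1 → g = y.1 := fun y hy => by
    by_contra hne
    have := codim_lt X (hg.specializes hy) hne
    have := not_mem_of_codim_le hU hgU
    have := y.2
    omega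
  exact Subtype.ext (Subtype.ext ((key _ h1).symm.trans (key _ h2)))

/-- The points of codimension one more than the bound outside an open. -/
noncomputable def outside {U : X.scheme.Opens} (hU : ContainsFj X j U) : Finset (X.cdPt (j + 1)) :=
  (finite_outside hU).toFinset

theorem mem_outside {U : X.scheme.Opens} (hU : ContainsFj X j U) {x : X.cdPt (j + 1)} :
    x ∈ outside hU ↔ x.1 ∉ U :=
  Set.Finite.mem_toFinset _

theorem exists_split (U : Idx X (ContainsFj X j)) :
    ∃ Y : Idx X (ContainsFj X (j + 1)), IsSplit (j + 1) (outside U.2.1) Y.1 U.1 := by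
  classical
  obtain ⟨S, hSfin, hSc, hSi, hS⟩ :=
    NoetherianSpace.exists_finite_set_isClosed_irreducible (U.1.2.isClosed_compl)
  let S' := {t ∈ S | ∀ x ∈ outside U.2.1, ¬(t = closure {x.1})}
  let s := outside U.2.1
  let bad : Set X.scheme := (⋃ t ∈ S', t) ∪
    ⋃ p ∈ (s ×ˢ s).filter (fun p => p.1 ≠ p.2), closure {p.1.1} ∩ closure {p.2.1}
  have hbadc : IsClosed bad :=
    ((hSfin.subset fun t ht => ht.1).isClosed_biUnion fun t ht => hSc t ht.1).union
      (Set.Finite.isClosed_biUnion (Finset.finite_toSet _) fun p _ => isClosed_closure.inter isClosed_closure)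
  have hbad : ∀ y ∈ bad, y ∉ U.1 ∧ j + 1 < WeilCoh.codim X.scheme y := by
    rintro y (hy | hy)
    · simp only [Set.mem_iUnion] at hy
      obtain ⟨t, ⟨ht, ht'⟩, hyt⟩ := hy
      have hyU : y ∉ U.1 := show y ∈ (U.1 : Set X.scheme)ᶜ from hS ▸ Set.mem_sUnion_of_mem hyt ht
      refine ⟨hyU, ?_⟩
      obtain ⟨g, hg⟩ : ∃ g, IsGenericPoint g t :=
        ⟨_, (hSi t ht).isGenericPoint_genericPoint (hSc t ht)⟩
      have hgU : g ∉ U.1 := show g ∈ (U.1 : Set X.scheme)ᶜ from hS ▸ Set.mem_sUnion_of_mem hg.mem ht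
      refine lt_of_lt_of_le (lt_of_le_of_ne (not_mem_of_codim_le U.2.1 hgU) fun e => ?_)
        (codim_mono X (hg.specializes hyt))
      exact ht' ⟨g, e.symm⟩ ((mem_outside U.2.1).mpr hgU) hg.def.symm
    · simp only [Set.mem_iUnion, Finset.mem_filter, Finset.mem_product] at hy
      obtain ⟨p, ⟨⟨hp1, hp2⟩, hne⟩, hy1, hy2⟩ := hy
      have h1 := specializes_iff_mem_closure.mpr hy1
      have h2 := specializes_iff_mem_closure.mpr hy2
      refine ⟨fun h => (mem_outside U.2.1).mp hp1 (h1.mem_open U.1.2 h), ?_⟩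
      rcases eq_or_ne p.1.1 y with e | e
      · have := codim_lt X h2 (fun e' => hne (Subtype.ext (e.trans e'.symm)))
        rw [p.2.2] at this
        exact this
      · have := codim_lt X h1 e
        rw [p.1.2] at this
        exact this
  have hY : ContainsFj X (j + 1) ⟨badᶜ, hbadc.isOpen_compl⟩ := fun y hy h => by
    have := (hbad y h).2
    omega
  refine ⟨mkIdx X (j + 1) _ hY, fun y hy h => (hbad y h).1 hy, dim_eq_of_containsFj X hY, U.2.2,
    fun x _ => hY x.1 x.2.le, fun x hx => (mem_outside U.2.1).mp hx, fun y hy hyU => ?_,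
    fun y hy x hx x' hx' h h' => ?_⟩
  · obtain ⟨t, ht, hyt⟩ : y ∈ ⋃₀ S := hS ▸ (show y ∈ (U.1 : Set X.scheme)ᶜ from hyU)
    by_contra hne
    push Not at hne
    refine hy (Or.inl (Set.mem_biUnion (x := t) ⟨ht, fun x hx e => ?_⟩ hyt))
    exact hne x hx (specializes_iff_mem_closure.mpr (e ▸ hyt))
  · by_contra hne
    exact hy (Or.inr (Set.mem_biUnion (x := (x, x')) (by simp [s, hx, hx', hne])
      ⟨specializes_iff_mem_closure.mp h, specializes_iff_mem_closure.mp h'⟩))

theorem containsFj_compl_closure {x : X.scheme} (hx : j + 1 ≤ WeilCoh.codim X.scheme x) :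
    ContainsFj X j ⟨(closure {x})ᶜ, isClosed_closure.isOpen_compl⟩ := fun y hy h => by
  have := codim_mono X (specializes_iff_mem_closure.mpr h)
  omega

theorem isSplit_singleton (U : Idx X (ContainsFj X j)) (x : X.cdPt (j + 1)) (hx : x.1 ∈ U.1) :
    ∃ U' : Idx X (ContainsFj X j), IsSplit (j + 1) {x} U.1 U'.1 := by
  have hc := containsFj_inf X U.2.1 (containsFj_compl_closure (X := X) (j := j) x.2.ge)
  refine ⟨mkIdx X j _ hc, inf_le_left, U.2.2, dim_eq_of_containsFj X hc, ?_, ?_, ?_, ?_⟩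
  · intro x' hx'; rwa [Finset.mem_singleton.mp hx']
  · intro x' hx' h
    rw [Finset.mem_singleton.mp hx'] at h
    exact h.2 (subset_closure rfl)
  · intro y hy hyU
    refine ⟨x, Finset.mem_singleton_self x, specializes_iff_mem_closure.mpr ?_⟩
    by_contra h
    exact hyU ⟨hy, h⟩
  · intro y _ a ha b hb _ _
    rw [Finset.mem_singleton.mp ha, Finset.mem_singleton.mp hb]

theorem push_congr {Y Y' : Obj V} {f g : Y.scheme ⟶ Y'.scheme} [IsProper f] [IsProper g] (h : f = g)
    (i n i' n' : ℤ) (hi : i' = i + 2 * relCodim Y.scheme Y'.scheme)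
    (hn : n' = n + relCodim Y.scheme Y'.scheme) :
    T.push f M i n i' n' hi hn = T.push g M i n i' n' hi hn := by
  subst h; rfl

namespace IsSplit

variable {c : ℕ} {s : Finset (X.cdPt c)} {Y U : X.scheme.Opens}

theorem restrict (hs : IsSplit c s Y U) (Y' : X.scheme.Opens) (hle : Y' ≤ Y)
    (hmem : ∀ x ∈ s, x.1 ∈ Y') (hd : WeilCoh.dim (Y' : Scheme.{u}) = WeilCoh.dim X.scheme)
    (hdU : WeilCoh.dim ((U ⊓ Y' : X.scheme.Opens) : Scheme.{u}) = WeilCoh.dim X.scheme) :
    IsSplit c s Y' (U ⊓ Y') :=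
  ⟨inf_le_right, hd, hdU, hmem, fun x hx h => hs.not_mem x hx h.1,
    fun y hy hyU => hs.cover y (hle hy) fun h => hyU ⟨h, hy⟩, fun y hy => hs.unique y (hle hy)⟩

/-- Push-forward of a class of a piece, through the closed part. -/
theorem push_part (hs : IsSplit c s Y U) {x : X.cdPt c} (hx : x ∈ s) (i n i' n' : ℤ)
    (hi : i' = i + 2 * (c : ℤ)) (hn : n' = n + (c : ℤ))
    (h1 : i = i + 2 * relCodim ((X.ptSub x.1).res (piece x.1 Y (hs.mem x hx)).1).scheme hs.decomp.Z.scheme)
    (h2 : n = n + relCodim ((X.ptSub x.1).res (piece x.1 Y (hs.mem x hx)).1).scheme hs.decomp.Z.scheme)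
    (h3 : i' = i + 2 * relCodim hs.decomp.Z.scheme (X.res Y).scheme)
    (h4 : n' = n + relCodim hs.decomp.Z.scheme (X.res Y).scheme)
    (z : T.gp ((X.ptSub x.1).res (piece x.1 Y (hs.mem x hx)).1) M i n) :
    (T.push hs.decomp.i M i n i' n' h3 h4).hom ((T.push (hs.part hx).hom M i n i n h1 h2).hom z) =
      (T.push (pieceι x.1 Y (hs.mem x hx)) M i n i' n'
        (by rw [relCodim_piece x.1 x.2 Y hs.dimY (hs.mem x hx)]; exact hi)
        (by rw [relCodim_piece x.1 x.2 Y hs.dimY (hs.mem x hx)]; exact hn)).hom z := by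
  have hr := relCodim_piece x.1 x.2 Y hs.dimY (hs.mem x hx)
  have h := T.push_comp (hs.part hx).hom hs.decomp.i M i n i n i' n' h1 h2 h3 h4
    (by rw [hr]; exact hi) (by rw [hr]; exact hn)
  rw [← push_congr T M (hs.part_fac hx) i n i' n' (by rw [hr]; exact hi) (by rw [hr]; exact hn), ← h]
  rfl

theorem idx_part (hs : IsSplit c s Y U) {x : X.cdPt c} (hx : x ∈ s) (i n : ℤ) :
    i = i + 2 * relCodim ((X.ptSub x.1).res (piece x.1 Y (hs.mem x hx)).1).scheme hs.decomp.Z.scheme ∧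
      n = n + relCodim ((X.ptSub x.1).res (piece x.1 Y (hs.mem x hx)).1).scheme hs.decomp.Z.scheme := by
  simp [relCodim_hom (hs.part hx)]

theorem pull_sum_part (hs : IsSplit c s Y U) (i n : ℤ)
    (ζ : ∀ x : s, T.gp ((X.ptSub x.1.1).res (piece x.1.1 Y (hs.mem x.1 x.2)).1) M i n) (x₀ : s) :
    (T.pull (hs.part x₀.2) M i n).hom (∑ x ∈ s.attach,
      (T.push (hs.part x.2).hom M i n i n (hs.idx_part x.2 i n).1 (hs.idx_part x.2 i n).2).hom (ζ x)) = ζ x₀ := by
  rw [map_sum, Finset.sum_eq_single x₀]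
  · exact pull_push_self T M (hs.part x₀.2) i n _ _ _
  · intro x _ hne
    exact pull_push_disjoint T M (hs.part x.2) (hs.part x₀.2)
      (hs.disjoint_part x₀.2 x.2 fun e => hne (Subtype.ext e.symm)) i n _ _ _
  · intro h; exact absurd (Finset.mem_attach _ _) h

theorem eq_zero_of_part (hs : IsSplit c s Y U) (hne : s.Nonempty) (i n : ℤ)
    (z : T.gp hs.decomp.Z M i n) (h : ∀ x : s, (T.pull (hs.part x.2) M i n).hom z = 0) : z = 0 :=
  eq_zero_of_pull_eq_zero T M s.attach.card s.attach rfl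
    (fun x : s => (X.ptSub x.1.1).res (piece x.1.1 Y (hs.mem x.1 x.2)).1)
    (fun x => hs.part x.2) (Finset.attach_nonempty_iff.mpr hne)
    (fun x _ => (hs.part x.2).hom.isClosedMap.isClosed_range)
    (fun x _ y _ hxy => hs.disjoint_part x.2 y.2 fun e => hxy (Subtype.ext e))
    (fun z => by
      obtain ⟨x, hx, hz⟩ := hs.exists_mem_part z
      exact ⟨⟨x, hx⟩, Finset.mem_attach _ _, hz⟩)
    i n z fun x _ => h x

theorem eq_sum_part (hs : IsSplit c s Y U) (hne : s.Nonempty) (i n : ℤ)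
    (z : T.gp hs.decomp.Z M i n) :
    z = ∑ x ∈ s.attach, (T.push (hs.part x.2).hom M i n i n (hs.idx_part x.2 i n).1
      (hs.idx_part x.2 i n).2).hom ((T.pull (hs.part x.2) M i n).hom z) :=
  (sub_eq_zero.mp (hs.eq_zero_of_part T M hne i n _ fun x => by
    rw [map_sub, hs.pull_sum_part T M i n (fun x => (T.pull (hs.part x.2) M i n).hom z) x, sub_self]))

theorem push_decomp_sum (hs : IsSplit c s Y U) (i n i' n' : ℤ)
    (hi : i' = i + 2 * (c : ℤ)) (hn : n' = n + (c : ℤ))
    (h3 : i' = i + 2 * relCodim hs.decomp.Z.scheme (X.res Y).scheme)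
    (h4 : n' = n + relCodim hs.decomp.Z.scheme (X.res Y).scheme)
    (ζ : ∀ x : s, T.gp ((X.ptSub x.1.1).res (piece x.1.1 Y (hs.mem x.1 x.2)).1) M i n) :
    (T.push hs.decomp.i M i n i' n' h3 h4).hom (∑ x ∈ s.attach,
      (T.push (hs.part x.2).hom M i n i n (hs.idx_part x.2 i n).1 (hs.idx_part x.2 i n).2).hom (ζ x)) =
    ∑ x ∈ s.attach, (T.push (pieceι x.1.1 Y (hs.mem x.1 x.2)) M i n i' n'
      (by rw [relCodim_piece x.1.1 x.1.2 Y hs.dimY (hs.mem x.1 x.2)]; exact hi)
      (by rw [relCodim_piece x.1.1 x.1.2 Y hs.dimY (hs.mem x.1 x.2)]; exact hn)).hom (ζ x) := by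
  rw [map_sum]
  exact Finset.sum_congr rfl fun x _ => hs.push_part T M x.2 i n i' n' hi hn _ _ h3 h4 _

/-- The comparison of closed parts under shrinking. -/
theorem exists_hom_restrict (hs : IsSplit c s Y U) {Y' U' : X.scheme.Opens} (hs' : IsSplit c s Y' U')
    (hne : s.Nonempty) (hle : Y' ≤ Y) (hU : U ⊓ Y' ≤ U') (hU' : U' ≤ U) :
    ∃ k : hs'.decomp.Z ⟶ hs.decomp.Z, k.hom ≫ diffι Y U = diffι Y' U' ≫ X.scheme.homOfLE hle := by
  have hY : ∀ z, Y.ι ((diffι Y' U' ≫ X.scheme.homOfLE hle) z) = Y'.ι (diffι Y' U' z) := fun z => by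
    rw [← Scheme.Hom.comp_apply, Category.assoc, Scheme.homOfLE_ι]; rfl
  obtain ⟨k, hk⟩ := exists_lift_vanishingIdeal (diffι Y' U' ≫ X.scheme.homOfLE hle) (diffSet Y U) (by
    rintro _ ⟨z, rfl⟩ (hz : Y.ι _ ∈ U)
    rw [hY] at hz
    exact diffι_not_mem Y' U' z (hU ⟨hz, (diffι Y' U' z).2⟩))
  haveI : IsPreimmersion (k ≫ diffι Y U) := hk.symm ▸ inferInstance
  haveI : IsPreimmersion k := IsPreimmersion.of_comp k (diffι Y U)
  have hr : Set.range k = (Y.ι ∘ diffι Y U) ⁻¹' (Y' : Set X.scheme) := by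
    ext z
    constructor
    · rintro ⟨w, rfl⟩
      show Y.ι (diffι Y U (k w)) ∈ Y'
      rw [← Scheme.Hom.comp_apply (f := k), hk, hY]
      exact (diffι Y' U' w).2
    · intro hz
      obtain ⟨w, hw⟩ : (⟨Y.ι (diffι Y U z), hz⟩ : (Y' : Scheme.{u})) ∈ Set.range (diffι Y' U') :=
        (range_diffι Y' U').ge fun h => diffι_not_mem Y U z (hU' h)
      refine ⟨w, (Y.ι.isEmbedding.comp (diffι Y U).isEmbedding).injective ?_⟩
      show Y.ι (diffι Y U (k w)) = Y.ι (diffι Y U z)
      rw [← Scheme.Hom.comp_apply (f := k), hk, hY, hw]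
      rfl
  refine ⟨⟨k, isOpenImmersion_of_isOpen_range (S := (diffObj Y U).scheme) k ?_, ?_⟩, hk⟩
  · rw [hr]; exact Y'.2.preimage (Y.ι.continuous.comp (diffι Y U).continuous)
  · have h1 := hs.dim_diffObj hne
    have h2 := hs'.dim_diffObj hne
    show WeilCoh.dim (diffObj Y' U').scheme = WeilCoh.dim (diffObj Y U).scheme
    omega

end IsSplit

end Groth.Agent.BMCohLib
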