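import Groth.Agent.BMCohLib.Residue

/-!
# Extension across points, kernels of restriction, and the values of residue and push data
-/

set_option autoImplicit false
set_option linter.style.haveILetI false
set_option backward.isDefEq.respectTransparency false
set_option backward.defeqAttrib.useBackward true

universe u

open AlgebraicGeometry CategoryTheory CategoryTheory.Limits Opposite BMCoh TopologicalSpace Topology

namespace Groth.Agent.BMCohLib

variable {V : ObjectProperty Scheme.{u}} [IsConstructible V] {R : Type u} [CommRing R] {A : Coefs R}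
  (T : PreTheory V R A) {X : Obj V} {j : ℕ} (M : A.Cat)

theorem finsetInf_mem {ι : Type*} (s : Finset ι) (f : ι → X.scheme.Opens) (h : ∀ x ∈ s, ContainsFj X j (f x)) :
    ContainsFj X j (s.inf f) :=
  Finset.inf_induction (p := fun U => ContainsFj X j U) (fun _ _ => trivial)
    (fun _ h _ h' => containsFj_inf X h h') h

theorem pull_resLE_eq_zero (Z : Obj V) {O O' O'' : Z.scheme.Opens} (h : O ≤ O') (h' : O' ≤ O'') (h'' : O ≤ O'')
    (d : WeilCoh.dim (O : Scheme.{u}) = WeilCoh.dim (O' : Scheme.{u}))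
    (d' : WeilCoh.dim (O' : Scheme.{u}) = WeilCoh.dim (O'' : Scheme.{u}))
    (d'' : WeilCoh.dim (O : Scheme.{u}) = WeilCoh.dim (O'' : Scheme.{u})) (i n : ℤ)
    (z : T.gp (Z.res O'') M i n) (hz : (T.pull (Z.resLE h' d') M i n).hom z = 0) :
    (T.pull (Z.resLE h'' d'') M i n).hom z = 0 := by
  have e : Z.resLE h'' d'' = Z.resLE h d ≫ Z.resLE h' d' :=
    Hom.ext (Scheme.homOfLE_homOfLE Z.scheme h h').symm
  rw [e, ← pull_pull_apply, hz, map_zero]

namespace IsSplit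

variable {c : ℕ} {s : Finset (X.cdPt c)} {Y U : X.scheme.Opens}

theorem idx_res (hs : IsSplit c s Y U) (hne : s.Nonempty) {i n i' n' : ℤ}
    (hi : i' = i + 1 - 2 * (c : ℤ)) (hn : n' = n - (c : ℤ)) :
    i' = i + 1 - 2 * hs.decomp.codim ∧ n' = n - hs.decomp.codim := by
  rw [hs.decomp_codim hne]; exact ⟨hi, hn⟩

theorem idx_push (hs : IsSplit c s Y U) (hne : s.Nonempty) {i n i' n' : ℤ}
    (hi : i' = i + 2 * (c : ℤ)) (hn : n' = n + (c : ℤ)) :
    i' = i + 2 * relCodim hs.decomp.Z.scheme (X.res Y).scheme ∧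
      n' = n + relCodim hs.decomp.Z.scheme (X.res Y).scheme := by
  rw [show relCodim hs.decomp.Z.scheme (X.res Y).scheme = (c : ℤ) from hs.decomp_codim hne]; exact ⟨hi, hn⟩

/-- The residue at a point of a split of a class on the smaller open. -/
noncomputable def residue (hs : IsSplit c s Y U) {x : X.cdPt c} (hx : x ∈ s) (i n i' n' : ℤ)
    (hi : i' = i + 1 - 2 * (c : ℤ)) (hn : n' = n - (c : ℤ)) :
    T.gp (X.res U) M i n ⟶ T.ptGp X x.1 M i' n' :=
  T.res hs.decomp M i n i' n' (hs.idx_res ⟨x, hx⟩ hi hn).1 (hs.idx_res ⟨x, hx⟩ hi hn).2 ≫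
    T.pull (hs.part hx) M i' n' ≫ (T.ptι X x.1 i' n' (piece x.1 Y (hs.mem x hx))).app M

theorem residue_restrict (hs : IsSplit c s Y U) {Y' U' : X.scheme.Opens} (hs' : IsSplit c s Y' U')
    (hle : Y' ≤ Y) (hU : U ⊓ Y' ≤ U') (hU' : U' ≤ U) (i n i' n' : ℤ) (hne : s.Nonempty)
    (hi : i' = i + 1 - 2 * (c : ℤ)) (hn : n' = n - (c : ℤ)) (b : T.gp (X.res U) M i n) (x : X.cdPt c)
    (hx : x ∈ s) :
    (T.pull (hs'.part hx) M i' n').hom ((T.res hs'.decomp M i n i' n' (hs'.idx_res hne hi hn).1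
        (hs'.idx_res hne hi hn).2).hom ((T.pull (X.resLE hU' (hs'.dimU.trans hs.dimU.symm)) M i n).hom b)) =
      (T.pull (pieceLE x.1 hle (hs'.mem x hx)) M i' n').hom ((T.pull (hs.part hx) M i' n').hom
        ((T.res hs.decomp M i n i' n' (hs.idx_res hne hi hn).1 (hs.idx_res hne hi hn).2).hom b)) := by
  obtain ⟨k, hk⟩ := hs.exists_hom_restrict hs' hne hle hU hU'
  have h := congrArg (fun φ => φ.hom b) (T.res_pull hs.decomp hs'.decomp
    (X.resLE hle (hs'.dimY.trans hs.dimY.symm)) k (X.resLE hU' (hs'.dimU.trans hs.dimU.symm)) hk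
    (Hom.ext ((Scheme.homOfLE_homOfLE X.scheme hU' hs.le).trans
      (Scheme.homOfLE_homOfLE X.scheme hs'.le hle).symm))
    M i n i' n' (hs.idx_res hne hi hn).1 (hs.idx_res hne hi hn).2 (hs'.idx_res hne hi hn).1
    (hs'.idx_res hne hi hn).2)
  simp only [ModuleCat.hom_comp, LinearMap.comp_apply] at h
  erw [← h]
  rw [pull_pull_apply]
  erw [pull_pull_apply]
  congr 3
  refine Hom.ext ((cancel_mono (diffι Y U)).mp ?_)
  rw [comp_hom, comp_hom, Category.assoc, Category.assoc, hk]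
  erw [hs.part_fac hx]
  rw [← Category.assoc]
  erw [hs'.part_fac hx]
  exact (isPullback_pieceLE x.1 hle (hs'.dimY.trans hs.dimY.symm) (hs'.mem x hx)).w.symm

end IsSplit

/-- A class whose residues vanish comes from the next locus. -/
theorem mem_range_fjRes (i n i' n' : ℤ) (hi : i' = i + 1 - 2 * ((j + 1 : ℕ) : ℤ))
    (hn : n' = n - ((j + 1 : ℕ) : ℤ)) (a : T.fjGp X j M i n)
    (h : ∀ (U : Idx X (ContainsFj X j)) (Y : Idx X (ContainsFj X (j + 1))) (b : T.gp (X.res U.1) M i n),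
      ((T.fjι X j i n U).app M).hom b = a → ∀ (hs : IsSplit (j + 1) (outside U.2.1) Y.1 U.1)
      (x : X.cdPt (j + 1)) (hx : x ∈ outside U.2.1), (hs.residue T M hx i n i' n' hi hn).hom b = 0) :
    ∃ a', ((T.fjRes X (Nat.le_succ j) i n).app M).hom a' = a := by
  obtain ⟨U, b, rfl⟩ := exists_rep T X _ M i n a
  obtain ⟨Y, hs⟩ := exists_split U
  rcases (outside U.2.1).eq_empty_or_nonempty with he | hne
  · have hU : ContainsFj X (j + 1) U.1 := fun y hy => by
      rcases Nat.lt_or_eq_of_le hy with hlt | heq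
      · exact U.2.1 y (Nat.le_of_lt_succ hlt)
      · by_contra hyU
        have hm : (⟨y, heq⟩ : X.cdPt (j + 1)) ∈ outside U.2.1 := (mem_outside U.2.1).mpr hyU
        rw [he] at hm
        exact Finset.notMem_empty _ hm
    exact ⟨((T.fjι X (j + 1) i n (mkIdx X (j + 1) U.1 hU)).app M).hom b,
      ocolimMap_ι_apply T X (ContainsFj X (j + 1)) M i n (containsFj_mono X (Nat.le_succ j))
        (mkIdx X (j + 1) U.1 hU) b⟩
  have hz : ∀ x : ↥(outside U.2.1), ∃ W : ptIdx X x.1.1, ∃ hW : W.1 ≤ (piece x.1.1 Y.1 (hs.mem x.1 x.2)).1,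
      (resI T (X.ptSub x.1.1) _ M i' n' hW).hom ((T.pull (hs.part x.2) M i' n').hom
        ((T.res hs.decomp M i n i' n' (hs.idx_res hne hi hn).1 (hs.idx_res hne hi hn).2).hom b)) = 0 :=
    fun x => exists_zero T _ _ M i' n' (h U Y b rfl hs x.1 x.2)
  choose W hW hWz using hz
  let Y' : Idx X (ContainsFj X (j + 1)) := mkIdx X (j + 1)
    (Y.1 ⊓ (outside U.2.1).attach.inf fun x => exOpen x.1.1 (W x).1)
    (containsFj_inf X Y.2.1 (finsetInf_mem _ _ fun x _ => containsFj_exOpen x.1.2.ge _ (W x).2.1))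
  let U' : Idx X (ContainsFj X j) := mkIdx X j (U.1 ⊓ Y'.1)
    (containsFj_inf X U.2.1 (containsFj_mono X (Nat.le_succ j) _ Y'.2.1))
  have hs' : IsSplit (j + 1) (outside U.2.1) Y'.1 U'.1 :=
    hs.restrict Y'.1 inf_le_left (fun x _ => Y'.2.1 x.1 x.2.le) Y'.2.2 U'.2.2
  let b' := (T.pull (X.resLE (inf_le_left : U'.1 ≤ U.1) (U'.2.2.trans U.2.2.symm)) M i n).hom b
  have key : (T.res hs'.decomp M i n i' n' (hs'.idx_res hne hi hn).1 (hs'.idx_res hne hi hn).2).hom b' = 0 :=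
    hs'.eq_zero_of_part T M hne i' n' _ fun x => by
      refine (hs.residue_restrict T M hs' (inf_le_left : Y'.1 ≤ Y.1) le_rfl inf_le_left i n i' n' hne hi hn b
        x.1 x.2).trans ?_
      have hle : (piece x.1.1 Y'.1 (hs'.mem x.1 x.2)).1 ≤ (W x).1 :=
        le_trans ((X.ptSubι x.1.1).preimage_mono
          ((inf_le_right (a := Y.1)).trans (Finset.inf_le (Finset.mem_attach _ x)))) (preimage_exOpen _ _).le
      exact pull_resLE_eq_zero T M _ hle (hW x) _ ((piece x.1.1 Y'.1 _).2.2.trans (W x).2.2.symm)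
        ((W x).2.2.trans (piece x.1.1 Y.1 _).2.2.symm) _ i' n' _ (hWz x)
  obtain ⟨a', ha'⟩ := (T.exact_pull_res hs'.decomp M i n i' n' (hs'.idx_res hne hi hn).1
    (hs'.idx_res hne hi hn).2 b').mp key
  refine ⟨((T.fjι X (j + 1) i n Y').app M).hom a', ?_⟩
  rw [ocolimMap_ι_apply, ← ι_resI_apply T X _ M i n (U := U') (U' := U) inf_le_left,
    ← ι_resI_apply T X _ M i n (U := U') (U' := ⟨Y'.1, containsFj_mono X (Nat.le_succ j) _ Y'.2.1, Y'.2.2⟩) inf_le_right]
  exact congrArg _ ha'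

/-- Classes killed by restriction to the smaller locus are sums of push-forwards from points. -/
theorem exists_sum_of_fjRes_eq_zero (i n i' n' : ℤ) (hi : i' = i + 2 * ((j + 1 : ℕ) : ℤ))
    (hn : n' = n + ((j + 1 : ℕ) : ℤ)) (a : T.fjGp X (j + 1) M i' n')
    (h : ((T.fjRes X (Nat.le_succ j) i' n').app M).hom a = 0) :
    ∃ (Y : Idx X (ContainsFj X (j + 1))) (s : Finset (X.cdPt (j + 1)))
      (z : ∀ x : s, T.gp ((X.ptSub x.1.1).res (piece x.1.1 Y.1 (Y.2.1 x.1.1 x.1.2.le)).1) M i n),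
      a = ∑ x ∈ s.attach, ((T.fjι X (j + 1) i' n' Y).app M).hom
        ((pushPiece T M (j + 1) x.1.1 x.1.2 Y (Y.2.1 x.1.1 x.1.2.le) i n i' n' hi hn).hom (z x)) := by
  obtain ⟨Y₀, y, rfl⟩ := exists_rep T X _ M i' n' a
  rw [ocolimMap_ι_apply] at h
  obtain ⟨U, hU, hUz⟩ := exists_zero T X _ M i' n' h
  obtain ⟨Y₁, hs₁⟩ := exists_split U
  let Y := mkIdx X (j + 1) (Y₁.1 ⊓ Y₀.1) (containsFj_inf X Y₁.2.1 Y₀.2.1)
  have hs : IsSplit (j + 1) (outside U.2.1) Y.1 U.1 :=
    ⟨le_inf hs₁.le hU, Y.2.2, U.2.2, fun x _ => Y.2.1 x.1 x.2.le, hs₁.not_mem,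
      fun v hv => hs₁.cover v hv.1, fun v hv => hs₁.unique v hv.1⟩
  rw [← ι_resI_apply T X _ M i' n' (U := Y) (U' := Y₀) inf_le_right]
  rcases (outside U.2.1).eq_empty_or_nonempty with he | hne
  · have hYU : Y.1 ≤ U.1 := fun v hv => by
      by_contra hvU
      obtain ⟨x, hx, -⟩ := hs.cover v hv hvU
      rw [he] at hx
      exact Finset.notMem_empty _ hx
    have h0 : (resI T X _ M i' n' (U := Y) (U' := Y₀) inf_le_right).hom y = 0 :=
      pull_resLE_eq_zero T M X hYU hU _ (Y.2.2.trans U.2.2.symm) (U.2.2.trans Y₀.2.2.symm) _ i' n' y hUz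
    exact ⟨Y, ∅, fun _ => 0, by rw [h0, map_zero]; simp⟩
  have h0 : (T.pull hs.decomp.j M i' n').hom
      ((resI T X _ M i' n' (U := Y) (U' := Y₀) inf_le_right).hom y) = 0 := by
    erw [pull_pull_apply]
    refine Eq.trans (congrArg (fun f => (T.pull f M i' n').hom y) ?_) hUz
    exact Hom.ext (Scheme.homOfLE_homOfLE X.scheme hs.le inf_le_right)
  obtain ⟨w, hw⟩ := (exact_push_pull_apply T M hs.decomp i' n' i n (hs.idx_push hne hi hn).1
    (hs.idx_push hne hi hn).2 _).mp h0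
  refine ⟨Y, outside U.2.1, fun x => (T.pull (hs.part x.2) M i n).hom w, ?_⟩
  rw [← map_sum, ← hw]
  congr 1
  conv_lhs => rw [hs.eq_sum_part T M hne i n w]
  exact hs.push_decomp_sum T M i n i' n' hi hn _ _ fun x => (T.pull (hs.part x.2) M i n).hom w

/-- A class pushed from a point of the next codimension vanishes on the smaller locus. -/
theorem fjRes_pushPiece (x : X.cdPt (j + 1)) (Y : Idx X (ContainsFj X (j + 1))) (i n i' n' : ℤ)
    (hi : i' = i + 2 * ((j + 1 : ℕ) : ℤ)) (hn : n' = n + ((j + 1 : ℕ) : ℤ))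
    (z : T.gp ((X.ptSub x.1).res (piece x.1 Y.1 (Y.2.1 x.1 x.2.le)).1) M i n) :
    ((T.fjRes X (Nat.le_succ j) i' n').app M).hom (((T.fjι X (j + 1) i' n' Y).app M).hom
      ((pushPiece T M (j + 1) x.1 x.2 Y (Y.2.1 x.1 x.2.le) i n i' n' hi hn).hom z)) = 0 := by
  let Y' : Idx X (ContainsFj X j) := ⟨Y.1, containsFj_mono X (Nat.le_succ j) _ Y.2.1, Y.2.2⟩
  obtain ⟨U, hs⟩ := isSplit_singleton Y' x (Y.2.1 x.1 x.2.le)
  rw [ocolimMap_ι_apply, ← ι_resI_apply T X _ M i' n' (U := U) (U' := Y') hs.le]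
  have h0 := pull_push_decomp T M hs.decomp i' n' i n (hs.idx_push ⟨x, Finset.mem_singleton_self x⟩ hi hn).1
    (hs.idx_push ⟨x, Finset.mem_singleton_self x⟩ hi hn).2
    ((T.push (hs.part (Finset.mem_singleton_self x)).hom M i n i n (hs.idx_part (Finset.mem_singleton_self x) i n).1
      (hs.idx_part (Finset.mem_singleton_self x) i n).2).hom z)
  rw [hs.push_part T M (Finset.mem_singleton_self x) i n i' n' hi hn] at h0
  exact (congrArg _ h0).trans (map_zero _)

section data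

variable {T}

theorem resCpt_eq (Q : T.ResData X j) {s : Finset (X.cdPt (j + 1))} {Y : X.scheme.Opens}
    (U : Idx X (ContainsFj X j)) (hs : IsSplit (j + 1) s Y U.1) {x : X.cdPt (j + 1)} (hx : x ∈ s)
    (i n i' n' : ℤ) (hi : i' = i + 1 - 2 * ((j : ℤ) + 1)) (hn : n' = n - ((j : ℤ) + 1))
    (b : T.gp (X.res U.1) M i n) :
    (Q.cpt x M i n i' n' hi hn).hom (((T.fjι X j i n U).app M).hom b) =
      (hs.residue T M hx i n i' n' (by push_cast; exact hi) (by push_cast; exact hn)).hom b := by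
  have h := congrArg (fun φ => φ.hom b) (Q.cpt_spec x M i n i' n' hi hn (X.resι Y hs.dimY) hs.decomp
    (piece x.1 Y (hs.mem x hx)) (hs.part hx)
    (by erw [← Category.assoc, hs.part_fac hx]; exact pieceι_ι _ _ _) U (𝟙 (X.res U.1))
    (by rw [id_hom, Category.id_comp]; exact Scheme.homOfLE_ι _ hs.le)
    (hs.idx_res ⟨x, hx⟩ (by push_cast; exact hi) (by push_cast; exact hn)).1
    (hs.idx_res ⟨x, hx⟩ (by push_cast; exact hi) (by push_cast; exact hn)).2)
  simp only [ModuleCat.hom_comp, LinearMap.comp_apply] at h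
  erw [pull_id] at h
  exact h

theorem resCpt_of_mem (Q : T.ResData X j) (U : Idx X (ContainsFj X j)) (x : X.cdPt (j + 1))
    (hx : x.1 ∈ U.1) (i n i' n' : ℤ) (hi : i' = i + 1 - 2 * ((j : ℤ) + 1)) (hn : n' = n - ((j : ℤ) + 1))
    (b : T.gp (X.res U.1) M i n) :
    (Q.cpt x M i n i' n' hi hn).hom (((T.fjι X j i n U).app M).hom b) = 0 := by
  obtain ⟨U', hs⟩ := isSplit_singleton U x hx
  rw [← ι_resI_apply T X _ M i n (U := U') (U' := U) hs.le, resCpt_eq M Q U' hs (Finset.mem_singleton_self x)]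
  unfold IsSplit.residue
  simp only [ModuleCat.hom_comp, LinearMap.comp_apply]
  erw [(T.exact_pull_res hs.decomp M i n i' n' _ _).apply_apply_eq_zero b]
  rw [map_zero]
  exact map_zero _

theorem pushCpt_eq (P : T.PushData X j) (x : X.cdPt j) (U : Idx X (ContainsFj X j)) (hx : x.1 ∈ U.1)
    (i n i' n' : ℤ) (hi : i' = i + 2 * (j : ℤ)) (hn : n' = n + (j : ℤ))
    (z : T.gp ((X.ptSub x.1).res (piece x.1 U.1 hx).1) M i n) :
    (P.cpt x M i n i' n' hi hn).hom (((T.ptι X x.1 i n (piece x.1 U.1 hx)).app M).hom z) =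
      ((T.fjι X j i' n' U).app M).hom ((pushPiece T M j x.1 x.2 U hx i n i' n' hi hn).hom z) :=
  congrArg (fun φ => φ.hom z) (P.cpt_spec x M i n i' n' hi hn U (piece x.1 U.1 hx) (pieceι x.1 U.1 hx)
    (pieceι_ι _ _ _) (by rw [relCodim_piece x.1 x.2 U.1 U.2.2 hx]; exact hi)
    (by rw [relCodim_piece x.1 x.2 U.1 U.2.2 hx]; exact hn))

end data

end Groth.Agent.BMCohLib
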