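import Groth.Agent.BMCohLib.Geometry

/-!
# Opens differing by disjoint pieces of closures of points
-/

set_option autoImplicit false
set_option linter.style.haveILetI false
set_option backward.isDefEq.respectTransparency false
set_option backward.defeqAttrib.useBackward true

universe u

open AlgebraicGeometry CategoryTheory CategoryTheory.Limits Opposite BMCoh TopologicalSpace Topology

namespace Groth.Agent.BMCohLib

variable {V : ObjectProperty Scheme.{u}} [IsConstructible V] {R : Type u} [CommRing R] {A : Coefs R}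
  (T : PreTheory V R A) {X : Obj V} {j : ℕ} (M : A.Cat)

/-- The open `Y` is `U` together with disjoint pieces of closures of the points of a finite set, all
of one codimension. -/
structure IsSplit (c : ℕ) (s : Finset (X.cdPt c)) (Y U : X.scheme.Opens) : Prop where
  le : U ≤ Y
  dimY : WeilCoh.dim (Y : Scheme.{u}) = WeilCoh.dim X.scheme
  dimU : WeilCoh.dim (U : Scheme.{u}) = WeilCoh.dim X.scheme
  mem : ∀ x ∈ s, x.1 ∈ Y
  not_mem : ∀ x ∈ s, x.1 ∉ U
  cover : ∀ y ∈ Y, y ∉ U → ∃ x ∈ s, x.1 ⤳ y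
  unique : ∀ y ∈ Y, ∀ x ∈ s, ∀ x' ∈ s, x.1 ⤳ y → x'.1 ⤳ y → x = x'

/-- A closed part of an open, as a closed set. -/
def diffSet (Y U : X.scheme.Opens) : Closeds (Y : Scheme.{u}) :=
  ⟨(Y.ι ⁻¹' (U : Set X.scheme))ᶜ, (U.2.preimage Y.ι.continuous).isClosed_compl⟩

/-- The reduced subscheme on a closed part, as an object. -/
noncomputable abbrev diffObj (Y U : X.scheme.Opens) : Obj V :=
  ⟨(Scheme.IdealSheafData.vanishingIdeal (diffSet Y U)).subscheme,
    IsConstructible.of_isClosedImmersion (Scheme.IdealSheafData.vanishingIdeal (diffSet Y U)).subschemeι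
      (h := (inferInstance :
        IsClosedImmersion (Scheme.IdealSheafData.vanishingIdeal (diffSet Y U)).subschemeι)) (X.res Y).mem⟩

/-- Its immersion into the open. -/
noncomputable abbrev diffι (Y U : X.scheme.Opens) : (diffObj Y U).scheme ⟶ (X.res Y).scheme :=
  (Scheme.IdealSheafData.vanishingIdeal (diffSet Y U)).subschemeι

instance isReduced_diffObj (Y U : X.scheme.Opens) : IsReduced (diffObj Y U).scheme :=
  DVRCrit.isReduced_vanishingIdeal _

theorem range_diffι (Y U : X.scheme.Opens) :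
    Set.range (diffι Y U) = (Y.ι ⁻¹' (U : Set X.scheme))ᶜ := by
  rw [Scheme.IdealSheafData.range_subschemeι, Scheme.IdealSheafData.coe_support_vanishingIdeal]
  rfl

theorem diffι_not_mem (Y U : X.scheme.Opens) (z : (diffObj Y U).scheme) : Y.ι (diffι Y U z) ∉ U :=
  (range_diffι Y U).le ⟨z, rfl⟩

theorem exists_lift_vanishingIdeal {W S : Scheme.{u}} [IsReduced W] (q : W ⟶ S) (C : Closeds S)
    (h : Set.range q ⊆ C) :
    ∃ z : W ⟶ (Scheme.IdealSheafData.vanishingIdeal C).subscheme,
      z ≫ (Scheme.IdealSheafData.vanishingIdeal C).subschemeι = q := by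
  have e : (Scheme.IdealSheafData.vanishingIdeal C).subschemeι.ker ≤ q.ker := by
    rw [Scheme.IdealSheafData.ker_subschemeι, ← Scheme.IdealSheafData.map_bot, ← Scheme.nilradical_eq_bot,
      ← Scheme.IdealSheafData.vanishingIdeal_top, Scheme.IdealSheafData.map_vanishingIdeal]
    exact Scheme.IdealSheafData.vanishingIdeal_antimono (closure_minimal (by simpa using h) C.isClosed)
  exact ⟨IsClosedImmersion.lift _ q e, IsClosedImmersion.lift_fac _ _ _⟩

theorem isOpenImmersion_of_isOpen_range {W S : Scheme.{u}} [IsReduced S] (k : W ⟶ S)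
    [IsPreimmersion k] (h : IsOpen (Set.range k)) : IsOpenImmersion k := by
  let O : S.Opens := ⟨Set.range k, h⟩
  let k' := IsOpenImmersion.lift O.ι k (by rw [Scheme.Opens.range_ι]; rfl)
  have hk : k' ≫ O.ι = k := IsOpenImmersion.lift_fac _ _ _
  haveI : IsPreimmersion (k' ≫ O.ι) := hk.symm ▸ inferInstance
  haveI : IsPreimmersion k' := IsPreimmersion.of_comp k' O.ι
  haveI hsurj : Surjective k' := ⟨fun o => by
    obtain ⟨w, hw⟩ := o.2
    exact ⟨w, O.ι.isEmbedding.injective (by rw [← Scheme.Hom.comp_apply, hk]; exact hw)⟩⟩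
  haveI : IsClosedImmersion k' := IsClosedImmersion.of_isPreimmersion _ (by
    rw [Set.range_eq_univ.mpr hsurj.surj]; exact isClosed_univ)
  haveI : IsReduced (O : Scheme.{u}) := isReduced_of_isOpenImmersion O.ι
  haveI : IsIso k' := isIso_of_isClosedImmersion_of_surjective k'
  rw [← hk]; infer_instance

namespace IsSplit

variable {c : ℕ} {s : Finset (X.cdPt c)} {Y U : X.scheme.Opens}

theorem dim_diffObj (hs : IsSplit c s Y U) (hne : s.Nonempty) :
    WeilCoh.dim (diffObj Y U).scheme + c = WeilCoh.dim X.scheme := by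
  have hemb : IsEmbedding (Y.ι ∘ diffι Y U) := Y.ι.isEmbedding.comp (diffι Y U).isEmbedding
  obtain ⟨x, hx⟩ := hne
  have h1 := pdim_add_codim X x.1
  rw [x.2] at h1
  have lower : WeilCoh.pdim X.scheme x.1 ≤ WeilCoh.dim (diffObj Y U).scheme := by
    obtain ⟨z, hz⟩ : (⟨x.1, hs.mem x hx⟩ : (Y : Scheme.{u})) ∈ Set.range (diffι Y U) :=
      (range_diffι Y U).ge (hs.not_mem x hx)
    refine le_trans ?_ (pdim_le (diffObj Y U) z)
    rw [← dim_open_ptSub X x.1 _ (preimage_nonempty X (hs.mem x hx))]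
    have hpe : IsEmbedding ((X.ptSubι x.1) ∘ ((X.ptSubι x.1) ⁻¹ᵁ Y).ι) :=
      (X.ptSubι x.1).isEmbedding.comp (Scheme.Opens.ι _).isEmbedding
    refine (natDim_eq_of_range_eq hpe (hemb.comp IsEmbedding.subtypeVal) ?_).le
    have hzx : Y.ι (diffι Y U z) = x.1 := by rw [hz]; rfl
    ext y
    constructor
    · rintro ⟨w, rfl⟩
      obtain ⟨z', hz'⟩ : (⟨_, w.2⟩ : (Y : Scheme.{u})) ∈ Set.range (diffι Y U) :=
        (range_diffι Y U).ge fun h => hs.not_mem x hx ((ptSubι_specializes x.1 _).mem_open U.2 h)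
      have e : Y.ι (diffι Y U z') = X.ptSubι x.1 w.1 := by rw [hz']; rfl
      refine ⟨⟨z', specializes_iff_mem_closure.mp (hemb.isInducing.specializes_iff.mp ?_)⟩, e⟩
      show Y.ι (diffι Y U z) ⤳ Y.ι (diffι Y U z')
      rw [hzx, e]
      exact ptSubι_specializes x.1 _
    · rintro ⟨⟨z', hz'⟩, rfl⟩
      have hsp := (specializes_iff_mem_closure.mpr hz').map hemb.continuous
      obtain ⟨w, hw⟩ := mem_ptSubι_range.mpr (show x.1 ⤳ Y.ι (diffι Y U z') from hzx ▸ hsp)
      exact ⟨⟨w, show X.ptSubι x.1 w ∈ Y from hw ▸ (diffι Y U z').2⟩, hw⟩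
  have upper : WeilCoh.dim (diffObj Y U).scheme ≤ WeilCoh.pdim X.scheme x.1 := by
    haveI : Nonempty (diffObj Y U).scheme :=
      ⟨(show (⟨x.1, hs.mem x hx⟩ : (Y : Scheme.{u})) ∈ Set.range (diffι Y U) from
        (range_diffι Y U).ge (hs.not_mem x hx)).choose⟩
    obtain ⟨z, hz⟩ := exists_natDim_closure_eq (dim_lt_top (diffObj Y U))
      (k := WeilCoh.dim (diffObj Y U).scheme) le_rfl
    obtain ⟨x', hx', hsp⟩ := hs.cover (Y.ι (diffι Y U z)) (diffι Y U z).2 (diffι_not_mem Y U z)
    have h2 := pdim_add_codim X x'.1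
    rw [x'.2] at h2
    have h3 : WeilCoh.dim (diffObj Y U).scheme ≤ WeilCoh.pdim X.scheme (Y.ι (diffι Y U z)) := by
      rw [← hz]
      let e : closure ({z} : Set (diffObj Y U).scheme) → closure ({Y.ι (diffι Y U z)} : Set X.scheme) :=
        fun w => ⟨Y.ι (diffι Y U w.1),
          specializes_iff_mem_closure.mp ((specializes_iff_mem_closure.mpr w.2).map hemb.continuous)⟩
      refine natDim_mono_of_isInducing (f := e) ?_
        ((topologicalKrullDim_subspace_le _ _).trans_lt (dim_lt_top X))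
      exact ((hemb.comp IsEmbedding.subtypeVal).codRestrict _ _).isInducing
    have h4 := pdim_mono X hsp
    omega
  omega

/-- The decomposition of the larger open. -/
noncomputable def decomp (hs : IsSplit c s Y U) : Decomp (X.res Y) where
  Z := diffObj Y U
  U := X.res U
  i := diffι Y U
  closedImm := inferInstance
  j := X.resLE hs.le (hs.dimU.trans hs.dimY.symm)
  range_eq := by
    show Set.range (X.scheme.homOfLE hs.le) = (Set.range (diffι Y U))ᶜ
    rw [range_diffι, compl_compl]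
    ext y
    constructor
    · rintro ⟨w, rfl⟩
      show Y.ι (X.scheme.homOfLE hs.le w) ∈ U
      rw [← Scheme.Hom.comp_apply, Scheme.homOfLE_ι]
      exact w.2
    · intro hy
      exact ⟨⟨Y.ι y, hy⟩, Y.ι.isEmbedding.injective
        (by rw [← Scheme.Hom.comp_apply, Scheme.homOfLE_ι]; rfl)⟩

theorem decomp_codim (hs : IsSplit c s Y U) (hne : s.Nonempty) : hs.decomp.codim = (c : ℤ) := by
  have := hs.dim_diffObj hne
  show (WeilCoh.dim (Y : Scheme.{u}) : ℤ) - WeilCoh.dim (diffObj Y U).scheme = c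
  rw [hs.dimY]
  omega

theorem exists_lift (hs : IsSplit c s Y U) {x : X.cdPt c} (hx : x ∈ s) :
    ∃ k : ((X.ptSub x.1).res (piece x.1 Y (hs.mem x hx)).1).scheme ⟶ (diffObj Y U).scheme,
      k ≫ diffι Y U = pieceι x.1 Y (hs.mem x hx) := by
  haveI : IsReduced ((X.ptSub x.1).res (piece x.1 Y (hs.mem x hx)).1).scheme :=
    isReduced_of_isOpenImmersion (piece x.1 Y (hs.mem x hx)).1.ι
  refine exists_lift_vanishingIdeal _ _ ?_
  rw [range_pieceι]
  exact fun y hy h => hs.not_mem x hx ((show x.1 ⤳ Y.ι y from hy).mem_open U.2 h)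

theorem range_lift (hs : IsSplit c s Y U) {x : X.cdPt c} (hx : x ∈ s)
    (k : ((X.ptSub x.1).res (piece x.1 Y (hs.mem x hx)).1).scheme ⟶ (diffObj Y U).scheme)
    (hk : k ≫ diffι Y U = pieceι x.1 Y (hs.mem x hx)) :
    Set.range k = {z | x.1 ⤳ Y.ι (diffι Y U z)} := by
  ext z
  constructor
  · rintro ⟨w, rfl⟩
    have : pieceι x.1 Y (hs.mem x hx) w ∈ Y.ι ⁻¹' {y | x.1 ⤳ y} := (range_pieceι _ _ _).le ⟨w, rfl⟩
    rwa [← hk, Scheme.Hom.comp_apply] at this
  · intro hz
    obtain ⟨w, hw⟩ : diffι Y U z ∈ Set.range (pieceι x.1 Y (hs.mem x hx)) :=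
      (range_pieceι x.1 Y (hs.mem x hx)).ge hz
    exact ⟨w, (diffι Y U).isEmbedding.injective (by rw [← Scheme.Hom.comp_apply, hk]; exact hw)⟩

/-- A piece as a clopen part of the closed part. -/
noncomputable def part (hs : IsSplit c s Y U) {x : X.cdPt c} (hx : x ∈ s) :
    (X.ptSub x.1).res (piece x.1 Y (hs.mem x hx)).1 ⟶ hs.decomp.Z where
  hom := (hs.exists_lift hx).choose
  isOpenImmersion := by
    have hk := (hs.exists_lift hx).choose_spec
    haveI : IsClosedImmersion ((hs.exists_lift hx).choose ≫ diffι Y U) := hk.symm ▸ inferInstance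
    haveI : IsClosedImmersion (hs.exists_lift hx).choose :=
      IsClosedImmersion.of_comp_isClosedImmersion _ (diffι Y U)
    refine isOpenImmersion_of_isOpen_range (S := (diffObj Y U).scheme) _ ?_
    rw [hs.range_lift hx _ hk, ← isClosed_compl_iff]
    classical
    have : ({z | x.1 ⤳ Y.ι (diffι Y U z)} : Set (diffObj Y U).scheme)ᶜ =
        ⋃ x' ∈ s.erase x, (Y.ι ∘ diffι Y U) ⁻¹' closure {x'.1} := by
      ext z
      simp only [Set.mem_compl_iff, Set.mem_setOf_eq, Set.mem_iUnion, Set.mem_preimage, Function.comp_apply,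
        ← specializes_iff_mem_closure, Finset.mem_erase]
      constructor
      · intro h
        obtain ⟨x', hx', h'⟩ := hs.cover _ (diffι Y U z).2 (diffι_not_mem Y U z)
        exact ⟨x', ⟨fun e => h (e ▸ h'), hx'⟩, h'⟩
      · rintro ⟨x', ⟨hne, hx'⟩, h'⟩ h
        exact hne (hs.unique _ (diffι Y U z).2 x' hx' x hx h' h)
    rw [this]
    exact Set.Finite.isClosed_biUnion (Finset.finite_toSet _) fun x' _ =>
      isClosed_closure.preimage (Y.ι.continuous.comp (diffι Y U).continuous)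
  dim_eq := by
    have h1 := hs.dim_diffObj ⟨x, hx⟩
    have h2 := pdim_add_codim X x.1
    have h3 := dim_open_ptSub X x.1 _ (preimage_nonempty X (hs.mem x hx))
    rw [x.2] at h2
    show WeilCoh.dim (((X.ptSubι x.1) ⁻¹ᵁ Y : (X.ptSub x.1).scheme.Opens) : Scheme.{u}) =
      WeilCoh.dim (diffObj Y U).scheme
    omega

theorem part_fac (hs : IsSplit c s Y U) {x : X.cdPt c} (hx : x ∈ s) :
    (hs.part hx).hom ≫ hs.decomp.i = pieceι x.1 Y (hs.mem x hx) :=
  (hs.exists_lift hx).choose_spec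

theorem range_part (hs : IsSplit c s Y U) {x : X.cdPt c} (hx : x ∈ s) :
    Set.range (hs.part hx).hom = {z | x.1 ⤳ Y.ι (diffι Y U z)} :=
  hs.range_lift hx _ (hs.part_fac hx)

instance isClosedImmersion_part (hs : IsSplit c s Y U) {x : X.cdPt c} (hx : x ∈ s) :
    IsClosedImmersion (hs.part hx).hom := by
  haveI : IsClosedImmersion ((hs.part hx).hom ≫ diffι Y U) := (hs.exists_lift hx).choose_spec.symm ▸ inferInstance
  exact IsClosedImmersion.of_comp_isClosedImmersion _ (diffι Y U)

theorem disjoint_part (hs : IsSplit c s Y U) {x x' : X.cdPt c} (hx : x ∈ s) (hx' : x' ∈ s) (hne : x ≠ x') :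
    Disjoint (Set.range (hs.part hx).hom) (Set.range (hs.part hx').hom) := by
  rw [range_part, range_part]
  exact Set.disjoint_left.mpr fun z h h' => hne (hs.unique _ (diffι Y U z).2 x hx x' hx' h h')

theorem exists_mem_part (hs : IsSplit c s Y U) (z : hs.decomp.Z.scheme) :
    ∃ (x : X.cdPt c) (hx : x ∈ s), z ∈ Set.range (hs.part hx).hom := by
  obtain ⟨x, hx, h⟩ := hs.cover _ (diffι Y U z).2 (diffι_not_mem Y U z)
  exact ⟨x, hx, (hs.range_part hx).ge h⟩

end IsSplit

end Groth.Agent.BMCohLib
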