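import Groth.Agent.BMCohLib.LongExact

/-!
# Degree bounds, the smallest locus, and purity in degree two
-/

set_option autoImplicit false
set_option linter.style.haveILetI false
set_option backward.isDefEq.respectTransparency false
set_option backward.defeqAttrib.useBackward true

universe u

open AlgebraicGeometry CategoryTheory CategoryTheory.Limits Opposite BMCoh TopologicalSpace Topology
open DirectSum

namespace Groth.Agent.BMCohLib

variable {V : ObjectProperty Scheme.{u}} [IsConstructible V] {R : Type u} [CommRing R] {A : Coefs R}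
  {T : PreTheory V R A} {X : Obj V} {j : ℕ} (M : A.Cat)

theorem pull_bijective_of_isIso {Y Z : Obj V} (k : Y ⟶ Z) (h : Function.Surjective k.hom) (i n : ℤ) :
    Function.Bijective (T.pull k M i n).hom := by
  refine ⟨pull_injective_of_isIso T M k h i n, fun a => ?_⟩
  haveI : IsIso k.hom := (isIso_iff_isOpenImmersion_and_surjective _).mpr ⟨inferInstance, ⟨h⟩⟩
  let g : Z ⟶ Y := ⟨inv k.hom, inferInstance, k.dim_eq.symm⟩
  exact ⟨(T.pull g M i n).hom a, by
    rw [pull_pull_apply, show k ≫ g = 𝟙 Y from Hom.ext (IsIso.hom_inv_id k.hom), pull_id]⟩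

theorem eq_top_of_containsFj {k : ℕ} (hk : WeilCoh.dim X.scheme ≤ k) {U : X.scheme.Opens}
    (hU : ContainsFj X k U) : U = ⊤ :=
  top_unique fun x _ => hU x (le_trans (by have := pdim_add_codim X x; omega) hk)

theorem toFj_apply (i n : ℤ) (a : T.gp X M i n) :
    ((T.toFj X j i n).app M).hom a =
      ((T.fjι X j i n ⟨⊤, fun _ _ => trivial, dim_top X.scheme⟩).app M).hom ((T.pull X.resTop M i n).hom a) := rfl

theorem toFj_eq_fjι (i n : ℤ) (U : Idx X (ContainsFj X j)) (a : T.gp X M i n) :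
    ((T.toFj X j i n).app M).hom a = ((T.fjι X j i n U).app M).hom ((T.pull (X.resι U.1 U.2.2) M i n).hom a) := by
  rw [toFj_apply, ← ι_resI_apply T X _ M i n (U := U) (U' := ⟨⊤, fun _ _ => trivial, dim_top X.scheme⟩) (le_top : U.1 ≤ ⊤)]
  congr 1
  rw [pull_pull_apply]
  refine congrArg (fun f => (T.pull f M i n).hom a) (Hom.ext ?_)
  exact Scheme.homOfLE_ι X.scheme le_top

theorem toFj_fjRes {m : ℕ} (h : j ≤ m) (i n : ℤ) (a : T.gp X M i n) :
    ((T.fjRes X h i n).app M).hom (((T.toFj X m i n).app M).hom a) = ((T.toFj X j i n).app M).hom a := by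
  rw [toFj_apply, ocolimMap_ι_apply]
  rfl

theorem toFj_bijective_of_dim_le (hk : WeilCoh.dim X.scheme ≤ j) (i n : ℤ) :
    Function.Bijective ((T.toFj X j i n).app M).hom := by
  have hb := pull_bijective_of_isIso (T := T) M X.resTop (fun x => ⟨⟨x, trivial⟩, rfl⟩) i n
  let top : Idx X (ContainsFj X j) := ⟨⊤, fun _ _ => trivial, dim_top X.scheme⟩
  constructor
  · rw [injective_iff_map_eq_zero]
    intro a ha
    obtain ⟨U, hle, hU⟩ := exists_zero T X _ M i n (U := top) ha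
    have key : ∀ (U : Idx X (ContainsFj X j)) (h : U.1 ≤ top.1), U = top →
        ∀ z, (resI T X _ M i n h).hom z = 0 → z = 0 :=
      fun U h e z hz => by
        subst e
        have e : X.resLE h rfl = 𝟙 (X.res top.1) := Hom.ext (Scheme.homOfLE_rfl _ _)
        change (T.pull (X.resLE h rfl) M i n).hom z = 0 at hz
        rwa [e, pull_id] at hz
    exact hb.1 ((key U hle (Subtype.ext (eq_top_of_containsFj hk U.2.1)) _ hU).trans (map_zero _).symm)
  · intro β
    obtain ⟨U, b, rfl⟩ := exists_rep T X _ M i n β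
    obtain rfl : U = top := Subtype.ext (eq_top_of_containsFj hk U.2.1)
    obtain ⟨a, rfl⟩ := hb.2 b
    exact ⟨a, rfl⟩

theorem toFj_bijective_of_le (i n : ℤ)
    (hv : ∀ (x : X.scheme) (k l : ℤ), k < 0 → IsZero (T.ptGp X x M k l)) :
    ∀ (d j : ℕ), WeilCoh.dim X.scheme ≤ j + d → i ≤ 2 * (j : ℤ) →
      Function.Bijective ((T.toFj X j i n).app M).hom := by
  intro d
  induction d with
  | zero => exact fun j hd _ => toFj_bijective_of_dim_le M hd i n
  | succ d ih =>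
    intro j hd hi
    have h1 := ih (j + 1) (by omega) (by push_cast; omega)
    have h2 := fjRes_bijective (T := T) (X := X) (j := j) M i n (fun x _ => hv x _ _ (by omega))
      (fun x _ => hv x _ _ (by omega))
    have e : ⇑((T.toFj X j i n).app M).hom =
        ⇑((T.fjRes X (Nat.le_succ j) i n).app M).hom ∘ ⇑((T.toFj X (j + 1) i n).app M).hom :=
      funext fun a => (toFj_fjRes M (Nat.le_succ j) i n a).symm
    rw [e]
    exact h2.comp h1

theorem codim_hom {Y Z : Obj V} (f : Y ⟶ Z) (y : Y.scheme) :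
    WeilCoh.codim Z.scheme (f.hom y) = WeilCoh.codim Y.scheme y := by
  let O := f.hom.opensRange
  let k := homLift f O le_rfl
  have hk : ∀ w, O.ι (k.hom w) = f.hom w := fun w => by
    rw [← Scheme.Hom.comp_apply]
    exact congrArg (fun g : Y ⟶ Z => g.hom w) (homLift_fac f O le_rfl)
  have hsurj : Function.Surjective k.hom := fun o => by
    obtain ⟨w, hw⟩ := o.2
    exact ⟨w, O.ι.isEmbedding.injective ((hk w).trans hw)⟩
  let e := k.hom.isEmbedding.toHomeomorphOfSurjective hsurj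
  have hp : WeilCoh.pdim (O : Scheme.{u}) (k.hom y) = WeilCoh.pdim Y.scheme y := by
    refine (natDim_eq_of_range_eq (f := fun w : closure ({y} : Set Y.scheme) => k.hom w.1)
      (k.hom.isEmbedding.comp IsEmbedding.subtypeVal) IsEmbedding.subtypeVal ?_).symm
    rw [Subtype.range_coe]
    show Set.range (k.hom ∘ Subtype.val) = _
    rw [Set.range_comp, Subtype.range_coe, ← Set.image_singleton]
    exact e.image_closure {y}
  rw [← hk y, ← codim_open Z (k.dim_eq.symm.trans f.dim_eq) (k.hom y)]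
  unfold WeilCoh.codim
  rw [hp, k.dim_eq]

/-- Purity in degree two, and its analogues. -/
theorem pull_bijective_of_codim {U : Obj V} (f : U ⟶ X) {k : ℕ}
    (hbig : ∀ x : X.scheme, x ∉ Set.range f.hom → k + 1 ≤ WeilCoh.codim X.scheme x) (i n : ℤ)
    (hX : Function.Bijective ((T.toFj X k i n).app M).hom)
    (hU : Function.Bijective ((T.toFj U k i n).app M).hom) :
    Function.Bijective (T.pull f M i n).hom := by
  have hO : ContainsFj X k f.hom.opensRange := fun y hy => by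
    by_contra h
    have := hbig y h
    omega
  let O : Idx X (ContainsFj X k) := mkIdx X k f.hom.opensRange hO
  let g : U ⟶ X.res O.1 := ⟨(homLift f O.1 le_rfl).hom, inferInstance, f.dim_eq.trans O.2.2.symm⟩
  have hg : g ≫ X.resι O.1 O.2.2 = f := Hom.ext (IsOpenImmersion.lift_fac _ _ _)
  have hgw : ∀ w, O.1.ι (g.hom w) = f.hom w := fun w => by
    rw [← Scheme.Hom.comp_apply]
    exact congrArg (fun g : U ⟶ X => g.hom w) hg
  have hsurj : Function.Surjective g.hom := fun o => by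
    obtain ⟨w, hw⟩ := o.2
    exact ⟨w, O.1.ι.isEmbedding.injective ((hgw w).trans hw)⟩
  have hgb := pull_bijective_of_isIso (T := T) M g hsurj i n
  have hf : ∀ a, (T.pull f M i n).hom a = (T.pull g M i n).hom ((T.pull (X.resι O.1 O.2.2) M i n).hom a) :=
    fun a => by rw [pull_pull_apply, hg]
  constructor
  · rw [injective_iff_map_eq_zero]
    intro a ha
    apply hX.1
    rw [map_zero, toFj_eq_fjι M i n O, hgb.1 (((hf a).symm.trans ha).trans (map_zero _).symm)]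
    exact map_zero _
  · intro b
    obtain ⟨b', rfl⟩ := hgb.2 b
    obtain ⟨a, ha⟩ := hX.2 (((T.fjι X k i n O).app M).hom b')
    rw [toFj_eq_fjι M i n O] at ha
    refine ⟨a, (hf a).trans (congrArg _ ?_)⟩
    obtain ⟨O', hle, hz⟩ := exists_zero T X _ M i n (U := O) (a := (T.pull (X.resι O.1 O.2.2) M i n).hom a - b')
      (by rw [map_sub, ha]; exact sub_self _)
    let U' : Idx U (ContainsFj U k) := mkIdx U k (f.hom ⁻¹ᵁ O'.1)
      fun y hy => O'.2.1 _ ((codim_hom f y).trans_le hy)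
    have hmem : Set.range (U'.1.ι ≫ f.hom) ⊆ (O'.1 : Set X.scheme) := by
      rintro _ ⟨w, rfl⟩
      rw [Scheme.Hom.comp_apply]
      exact w.2
    let g' : U.res U'.1 ⟶ X.res O'.1 :=
      ⟨(homLift (U.resι U'.1 U'.2.2 ≫ f) O'.1 hmem).hom, inferInstance,
        (U'.2.2.trans f.dim_eq).trans O'.2.2.symm⟩
    have hsq : U.resι U'.1 U'.2.2 ≫ g = g' ≫ X.resLE hle (O'.2.2.trans O.2.2.symm) := by
      refine Hom.ext ((cancel_mono O.1.ι).mp ?_)
      rw [comp_hom, comp_hom, Category.assoc, Category.assoc]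
      show U'.1.ι ≫ g.hom ≫ O.1.ι = g'.hom ≫ X.scheme.homOfLE hle ≫ O.1.ι
      rw [Scheme.homOfLE_ι, show g.hom ≫ O.1.ι = f.hom from congrArg Hom.hom hg]
      exact (IsOpenImmersion.lift_fac _ _ _).symm
    rw [← sub_eq_zero]
    apply hgb.1
    rw [map_zero]
    apply hU.1
    rw [map_zero, toFj_eq_fjι M i n U', pull_pull_apply, hsq, ← pull_pull_apply]
    exact (congrArg (fun z => ((T.fjι U k i n U').app M).hom ((T.pull g' M i n).hom z)) hz).trans
      (by rw [map_zero, map_zero])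

theorem finite_codim_zero : (Set.univ : Set (X.cdPt 0)).Finite := by
  obtain ⟨S, hSfin, hSc, hSi, hS⟩ := NoetherianSpace.exists_finite_set_isClosed_irreducible
    (α := X.scheme) isClosed_univ
  have hmem : ∀ x : X.cdPt 0, ∃ t : S, x.1 ∈ t.1 := fun x => by
    obtain ⟨t, ht, hx⟩ : x.1 ∈ ⋃₀ S := hS ▸ Set.mem_univ _
    exact ⟨⟨t, ht⟩, hx⟩
  choose t ht using hmem
  haveI := hSfin.to_subtype
  haveI : Finite (X.cdPt 0) := Finite.of_injective t fun x x' e => by
    obtain ⟨g, hg⟩ : ∃ g, IsGenericPoint g (t x).1 :=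
      ⟨_, (hSi _ (t x).2).isGenericPoint_genericPoint (hSc _ (t x).2)⟩
    have key : ∀ y : X.cdPt 0, y.1 ∈ (t x).1 → g = y.1 := fun y hy => by
      by_contra hne
      have := codim_lt X (hg.specializes hy) hne
      rw [y.2] at this
      exact Nat.not_lt_zero _ this
    exact Subtype.ext ((key x (ht x)).symm.trans (key x' (by rw [e]; exact ht x')))
  exact Set.finite_univ

/-- An open made of disjoint pieces of the closures of all points of codimension zero. -/
theorem exists_pieces_zero :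
    ∃ (Y : Idx X (ContainsFj X 0)), ∀ y ∈ Y.1, ∃! x : X.cdPt 0, x.1 ⤳ y := by
  classical
  obtain ⟨S, hSfin, hSc, hSi, hS⟩ := NoetherianSpace.exists_finite_set_isClosed_irreducible
    (α := X.scheme) isClosed_univ
  let bad : Set X.scheme := (⋃ t ∈ {t ∈ S | ∀ x : X.cdPt 0, ¬t = closure {x.1}}, t) ∪
    ⋃ p ∈ ({p | p.1 ≠ p.2} : Set (X.cdPt 0 × X.cdPt 0)), closure {p.1.1} ∩ closure {p.2.1}
  haveI : Finite (X.cdPt 0) := Set.finite_univ_iff.mp finite_codim_zero
  have hbadc : IsClosed bad :=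
    ((hSfin.subset fun t ht => ht.1).isClosed_biUnion fun t ht => hSc t ht.1).union
      ((Set.toFinite _).isClosed_biUnion fun p _ => isClosed_closure.inter isClosed_closure)
  have hY : ContainsFj X 0 ⟨badᶜ, hbadc.isOpen_compl⟩ := fun y hy h => by
    have hy0 : WeilCoh.codim X.scheme y = 0 := Nat.le_zero.mp hy
    rcases h with h | h
    · simp only [Set.mem_iUnion] at h
      obtain ⟨t, ⟨ht, ht'⟩, hyt⟩ := h
      obtain ⟨g, hg⟩ : ∃ g, IsGenericPoint g t := ⟨_, (hSi t ht).isGenericPoint_genericPoint (hSc t ht)⟩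
      refine ht' ⟨g, Nat.le_zero.mp (hy0 ▸ codim_mono X (hg.specializes hyt))⟩ hg.def.symm
    · simp only [Set.mem_iUnion] at h
      obtain ⟨p, hne, h1, h2⟩ := h
      have key : ∀ x : X.cdPt 0, x.1 ⤳ y → x.1 = y := fun x hx => by
        by_contra hne'
        have := codim_lt X hx hne'
        rw [hy0] at this
        exact Nat.not_lt_zero _ this
      exact hne (Subtype.ext ((key _ (specializes_iff_mem_closure.mpr h1)).trans
        (key _ (specializes_iff_mem_closure.mpr h2)).symm))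
  refine ⟨mkIdx X 0 _ hY, fun y hy => ?_⟩
  obtain ⟨t, ht, hyt⟩ : y ∈ ⋃₀ S := hS ▸ Set.mem_univ _
  obtain ⟨x, hx⟩ : ∃ x : X.cdPt 0, t = closure {x.1} := by
    by_contra hne
    push Not at hne
    exact hy (Or.inl (Set.mem_biUnion (x := t) ⟨ht, hne⟩ hyt))
  refine ⟨x, specializes_iff_mem_closure.mpr (hx ▸ hyt), fun x' hx' => ?_⟩
  by_contra hne
  exact hy (Or.inr (Set.mem_biUnion (x := (x', x)) hne
    ⟨specializes_iff_mem_closure.mp hx', hx ▸ hyt⟩))

section zero

variable [IsReduced X.scheme]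

theorem piece_clopen (Y : Idx X (ContainsFj X 0)) (hY : ∀ y ∈ Y.1, ∃! x : X.cdPt 0, x.1 ⤳ y)
    (x : X.cdPt 0) : IsOpenImmersion (pieceι x.1 Y.1 (Y.2.1 x.1 x.2.le)) := by
  haveI : Finite (X.cdPt 0) := Set.finite_univ_iff.mp finite_codim_zero
  haveI : IsReduced (Y.1 : Scheme.{u}) := isReduced_of_isOpenImmersion Y.1.ι
  refine isOpenImmersion_of_isOpen_range (S := (Y.1 : Scheme.{u})) _ ?_
  rw [range_pieceι, ← isClosed_compl_iff]
  have : (Y.1.ι ⁻¹' {y | x.1 ⤳ y})ᶜ = ⋃ x' ∈ ({x}ᶜ : Set (X.cdPt 0)), Y.1.ι ⁻¹' closure {x'.1} := by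
    ext y
    simp only [Set.mem_compl_iff, Set.mem_preimage, Set.mem_setOf_eq, Set.mem_iUnion, Set.mem_singleton_iff,
      ← specializes_iff_mem_closure]
    obtain ⟨x', hx', huniq⟩ := hY _ y.2
    constructor
    · exact fun h => ⟨x', fun e => h (e ▸ hx'), hx'⟩
    · rintro ⟨x'', hne, hx''⟩ h
      exact hne ((huniq x'' hx'').trans (huniq x h).symm)
  rw [this]
  exact (Set.toFinite _).isClosed_biUnion fun x' _ => isClosed_closure.preimage Y.1.ι.continuous

/-- A piece at a point of codimension zero as a morphism of objects. -/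
noncomputable def pieceHom (Y : Idx X (ContainsFj X 0)) (hY : ∀ y ∈ Y.1, ∃! x : X.cdPt 0, x.1 ⤳ y)
    (x : X.cdPt 0) : (X.ptSub x.1).res (piece x.1 Y.1 (Y.2.1 x.1 x.2.le)).1 ⟶ X.res Y.1 :=
  ⟨pieceι x.1 Y.1 (Y.2.1 x.1 x.2.le), piece_clopen Y hY x, by
    have : (WeilCoh.dim (Y.1 : Scheme.{u}) : ℤ) -
        WeilCoh.dim ((piece x.1 Y.1 (Y.2.1 x.1 x.2.le)).1 : Scheme.{u}) = ((0 : ℕ) : ℤ) :=
      relCodim_piece x.1 x.2 Y.1 Y.2.2 (Y.2.1 x.1 x.2.le)
    show WeilCoh.dim ((piece x.1 Y.1 (Y.2.1 x.1 x.2.le)).1 : Scheme.{u}) = WeilCoh.dim (Y.1 : Scheme.{u})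
    omega⟩

instance isClosedImmersion_pieceHom (Y : Idx X (ContainsFj X 0))
    (hY : ∀ y ∈ Y.1, ∃! x : X.cdPt 0, x.1 ⤳ y) (x : X.cdPt 0) : IsClosedImmersion (pieceHom Y hY x).hom :=
  isClosedImmersion_pieceι _ _ _

theorem disjoint_pieceHom (Y : Idx X (ContainsFj X 0)) (hY : ∀ y ∈ Y.1, ∃! x : X.cdPt 0, x.1 ⤳ y)
    {x x' : X.cdPt 0} (h : x ≠ x') :
    Disjoint (Set.range (pieceHom Y hY x).hom) (Set.range (pieceHom Y hY x').hom) := by
  show Disjoint (Set.range (pieceι x.1 Y.1 _)) (Set.range (pieceι x'.1 Y.1 _))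
  rw [range_pieceι, range_pieceι]
  exact Set.disjoint_left.mpr fun y hy hy' => h ((hY _ y.2).unique hy hy')

theorem subsingleton_of_isEmpty {Z : Obj V} [IsEmpty Z.scheme] (i n : ℤ) : Subsingleton (T.gp Z M i n) := by
  refine ⟨fun a b => ?_⟩
  have h := pull_prod_bijective T M (𝟙 Z) (𝟙 Z) (Set.ext fun z => isEmptyElim z) i n
  obtain ⟨c, hc⟩ := h.2 (a, b)
  simp only [pull_id, Prod.mk.injEq] at hc
  exact hc.1.symm.trans hc.2

theorem eq_sum_pieceHom (Y : Idx X (ContainsFj X 0)) (hY : ∀ y ∈ Y.1, ∃! x : X.cdPt 0, x.1 ⤳ y)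
    [Fintype (X.cdPt 0)] (i n : ℤ) (hi : i = i + 2 * ((0 : ℕ) : ℤ)) (hn : n = n + ((0 : ℕ) : ℤ))
    (a : T.gp (X.res Y.1) M i n) :
    a = ∑ x : X.cdPt 0, (pushPiece T M 0 x.1 x.2 Y (Y.2.1 x.1 x.2.le) i n i n hi hn).hom
      ((T.pull (pieceHom Y hY x) M i n).hom a) := by
  classical
  cases isEmpty_or_nonempty (X.cdPt 0) with
  | inl he =>
    haveI : IsEmpty (X.res Y.1).scheme := ⟨fun y => he.false (hY _ y.2).choose⟩
    exact (subsingleton_of_isEmpty M i n).elim _ _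
  | inr hne =>
    rw [← sub_eq_zero]
    refine eq_zero_of_pull_eq_zero T M _ Finset.univ rfl _ (pieceHom Y hY) Finset.univ_nonempty
      (fun x _ => (pieceHom Y hY x).hom.isClosedMap.isClosed_range)
      (fun x _ x' _ h => disjoint_pieceHom Y hY h) (fun y => ?_) i n _ fun x₀ _ => ?_
    · obtain ⟨x, hx, -⟩ := hY _ y.2
      exact ⟨x, Finset.mem_univ _, (range_pieceι _ _ _).ge hx⟩
    · rw [map_sub, map_sum, Finset.sum_eq_single x₀, sub_eq_zero]
      · exact (pull_push_self T M (pieceHom Y hY x₀) i n _ _ _).symm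
      · exact fun x _ h => pull_push_disjoint T M (pieceHom Y hY x) (pieceHom Y hY x₀)
          (disjoint_pieceHom Y hY h.symm) i n _ _ _
      · exact fun h => absurd (Finset.mem_univ _) h

theorem fjGp_zero_eq_zero (i n : ℤ) (hv : ∀ x : X.scheme, WeilCoh.codim X.scheme x = 0 →
    IsZero (T.ptGp X x M i n)) (a : T.fjGp X 0 M i n) : a = 0 := by
  haveI : Finite (X.cdPt 0) := Set.finite_univ_iff.mp finite_codim_zero
  letI := Fintype.ofFinite (X.cdPt 0)
  obtain ⟨Y₀, hY₀⟩ := exists_pieces_zero (X := X)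
  obtain ⟨U, b, rfl⟩ := exists_rep T X _ M i n a
  let Y := mkIdx X 0 (U.1 ⊓ Y₀.1) (containsFj_inf X U.2.1 Y₀.2.1)
  have hY : ∀ y ∈ Y.1, ∃! x : X.cdPt 0, x.1 ⤳ y := fun y hy => hY₀ y hy.2
  rw [← ι_resI_apply T X _ M i n (U := Y) (U' := U) inf_le_left,
    eq_sum_pieceHom M Y hY i n (by simp) (by simp) ((resI T X _ M i n (U := Y) (U' := U) inf_le_left).hom b),
    map_sum]
  refine Finset.sum_eq_zero fun x _ =>
    fjι_pushPiece_eq_zero T M 0 x.1 x.2 le_rfl Y _ i n i n _ _ _ ?_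
  haveI := ModuleCat.subsingleton_of_isZero (hv x.1 x.2)
  exact Subsingleton.elim _ _

/-- Vanishing above the dimension. -/
theorem fjGp_eq_zero_of_lt (c : ℕ) (n : ℤ)
    (hc : ∀ (y : X.scheme) (k l : ℤ), (WeilCoh.pdim X.scheme y : ℤ) + c < k → IsZero (T.ptGp X y M k l)) :
    ∀ (j : ℕ) (i : ℤ), (WeilCoh.dim X.scheme : ℤ) + j + c < i → ∀ a : T.fjGp X j M i n, a = 0 := by
  intro j
  induction j with
  | zero =>
    exact fun i hi => fjGp_zero_eq_zero M i n fun x hx => hc x i n (by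
      have := pdim_add_codim X x; omega)
  | succ j ih =>
    intro i hi a
    have e1 : i = (i - 2 * ((j : ℤ) + 1)) + 2 * ((j + 1 : ℕ) : ℤ) := by push_cast; ring
    have e2 : n = (n - ((j : ℤ) + 1)) + ((j + 1 : ℕ) : ℤ) := by push_cast; ring
    obtain ⟨Y, s, z, rfl⟩ := exists_sum_of_fjRes_eq_zero T M _ _ i n e1 e2 a (ih i (by push_cast at hi; omega) _)
    refine Finset.sum_eq_zero fun x _ => fjι_pushPiece_eq_zero T M (j + 1) x.1.1 x.1.2 le_rfl Y _ _ _ i n e1 e2 _ ?_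
    haveI := ModuleCat.subsingleton_of_isZero (hc x.1.1 (i - 2 * ((j : ℤ) + 1)) (n - ((j : ℤ) + 1)) (by
      have h1 := pdim_add_codim X x.1.1
      have h2 := x.1.2
      push_cast at hi
      omega))
    exact Subsingleton.elim _ _

/-- Push-forward from the points of codimension zero of a reduced object is bijective. -/
theorem pushTot_bijective_zero (P : T.PushData X 0) (i n i' n' : ℤ)
    (hi : i' = i + 2 * ((0 : ℕ) : ℤ)) (hn : n' = n + ((0 : ℕ) : ℤ)) :
    Function.Bijective (P.tot M i n i' n' hi hn).hom := by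
  classical
  obtain rfl : i' = i := by simpa using hi
  obtain rfl : n' = n := by simpa using hn
  haveI : Finite (X.cdPt 0) := Set.finite_univ_iff.mp finite_codim_zero
  letI := Fintype.ofFinite (X.cdPt 0)
  obtain ⟨Y₀, hY₀⟩ := exists_pieces_zero (X := X)
  constructor
  · rw [injective_iff_map_eq_zero]
    intro ξ hξ
    have hrep : ∀ x : X.cdPt 0, ∃ (Yx : Idx X (ContainsFj X 0)) (ζ : T.gp ((X.ptSub x.1).res
        (piece x.1 Yx.1 (Yx.2.1 x.1 x.2.le)).1) M i' n'),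
        ((T.ptι X x.1 i' n' (piece x.1 Yx.1 (Yx.2.1 x.1 x.2.le))).app M).hom ζ = ξ x := fun x => by
      obtain ⟨W, b, hb⟩ := exists_rep T (X.ptSub x.1) _ M i' n' (ξ x)
      obtain ⟨Yx, hx, rfl⟩ := exists_piece_eq (j := 0) x.2.ge W
      exact ⟨Yx, b, hb⟩
    choose Yx ζ hζ using hrep
    obtain ⟨Y, hYY₀, hYx⟩ : ∃ Y : Idx X (ContainsFj X 0), Y.1 ≤ Y₀.1 ∧ ∀ x : X.cdPt 0, Y.1 ≤ (Yx x).1 :=
      ⟨mkIdx X 0 (Y₀.1 ⊓ Finset.univ.inf fun x => (Yx x).1)
        (containsFj_inf X Y₀.2.1 (finsetInf_mem _ _ fun x _ => (Yx x).2.1)),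
        inf_le_left, fun x => inf_le_right.trans (Finset.inf_le (Finset.mem_univ x))⟩
    let ζ' := fun x : X.cdPt 0 => (T.pull (pieceLE x.1 (hYx x) (Y.2.1 x.1 x.2.le)) M i' n').hom (ζ x)
    have hξ' : ∀ x : X.cdPt 0, ((T.ptι X x.1 i' n' (piece x.1 Y.1 (Y.2.1 x.1 x.2.le))).app M).hom (ζ' x) = ξ x :=
      fun x => by
        rw [← hζ x]
        exact ι_resI_apply T (X.ptSub x.1) _ M i' n' (U := piece x.1 Y.1 (Y.2.1 x.1 x.2.le))
          (U' := piece x.1 (Yx x).1 ((Yx x).2.1 x.1 x.2.le)) ((X.ptSubι x.1).preimage_mono (hYx x)) (ζ x)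
    have hsum : ((T.fjι X 0 i' n' Y).app M).hom (∑ x : X.cdPt 0,
        (pushPiece T M 0 x.1 x.2 Y (Y.2.1 x.1 x.2.le) i' n' i' n' hi hn).hom (ζ' x)) = 0 := by
      rw [map_sum, ← hξ]
      conv_rhs => rw [← DirectSum.sum_univ_of ξ, map_sum]
      refine Finset.sum_congr rfl fun x _ => ?_
      rw [← pushCpt_eq M P x Y (Y.2.1 x.1 x.2.le) i' n' i' n' hi hn (ζ' x), hξ' x, ← P.tot_lof]
      rfl
    obtain ⟨Y', hY', hY'0⟩ := exists_zero T X _ M i' n' hsum
    have hYp : ∀ y ∈ Y'.1, ∃! x : X.cdPt 0, x.1 ⤳ y := fun y hy => hY₀ y (hYY₀ (hY' hy))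
    refine DFinsupp.ext fun x₀ => ?_
    rw [← hξ' x₀, ← ι_resI_apply T (X.ptSub x₀.1) _ M i' n' (U := piece x₀.1 Y'.1 (Y'.2.1 x₀.1 x₀.2.le))
      (U' := piece x₀.1 Y.1 (Y.2.1 x₀.1 x₀.2.le)) ((X.ptSubι x₀.1).preimage_mono hY')]
    refine (congrArg _ ?_).trans (map_zero _)
    rw [map_sum] at hY'0
    have hstep : ∀ x : X.cdPt 0, (resI T X _ M i' n' hY').hom
        ((pushPiece T M 0 x.1 x.2 Y (Y.2.1 x.1 x.2.le) i' n' i' n' hi hn).hom (ζ' x)) =
        (pushPiece T M 0 x.1 x.2 Y' (Y'.2.1 x.1 x.2.le) i' n' i' n' hi hn).hom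
          ((T.pull (pieceLE x.1 hY' (Y'.2.1 x.1 x.2.le)) M i' n').hom (ζ' x)) := fun x => by
      exact pull_push_piece T M x.1 x.2 hY' Y'.2.2 Y.2.2 (Y'.2.1 x.1 x.2.le) i' n' i' n' hi hn (ζ' x)
    rw [Finset.sum_congr rfl fun x _ => hstep x] at hY'0
    have h := congrArg (T.pull (pieceHom Y' hYp x₀) M i' n').hom hY'0
    rw [map_sum, map_zero, Finset.sum_eq_single x₀] at h
    · exact (pull_push_self T M (pieceHom Y' hYp x₀) i' n' _ _ _).symm.trans h
    · exact fun x _ h => pull_push_disjoint T M (pieceHom Y' hYp x) (pieceHom Y' hYp x₀)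
        (disjoint_pieceHom Y' hYp h.symm) i' n' _ _ _
    · exact fun h => absurd (Finset.mem_univ _) h
  · intro a
    obtain ⟨U, b, rfl⟩ := exists_rep T X _ M i' n' a
    let Y := mkIdx X 0 (U.1 ⊓ Y₀.1) (containsFj_inf X U.2.1 Y₀.2.1)
    have hY : ∀ y ∈ Y.1, ∃! x : X.cdPt 0, x.1 ⤳ y := fun y hy => hY₀ y hy.2
    let b' := (resI T X _ M i' n' (U := Y) (U' := U) inf_le_left).hom b
    refine ⟨∑ x : X.cdPt 0, DirectSum.lof R (X.cdPt 0) (fun y => T.ptGp X y.1 M i' n') x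
      (((T.ptι X x.1 i' n' (piece x.1 Y.1 (Y.2.1 x.1 x.2.le))).app M).hom
        ((T.pull (pieceHom Y hY x) M i' n').hom b')), ?_⟩
    rw [← ι_resI_apply T X _ M i' n' (U := Y) (U' := U) inf_le_left, map_sum]
    refine Eq.trans ?_ (congrArg ((T.fjι X 0 i' n' Y).app M).hom (eq_sum_pieceHom M Y hY i' n' hi hn b')).symm
    rw [map_sum]
    refine Finset.sum_congr rfl fun x _ => ?_
    rw [P.tot_lof]
    exact pushCpt_eq M P x Y (Y.2.1 x.1 x.2.le) i' n' i' n' hi hn _

end zero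

end Groth.Agent.BMCohLib
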